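import Cfsg.Agent.H895.Pron.SuzF
import Cfsg.Agent.H408.Pron.Defs

/-!
# Row `Suz` of S2527 (helper895)

`po_suz_of` : the subgroups of odd index of the Suzuki group are pronormal, from the table of the orders and the
classification (for the simple sections of the overgroups of a Sylow 2-subgroup).
-/

set_option autoImplicit false

namespace Cfsg.Agent.H895.Pron.SuzG

open Cfsg.Spor Subgroup
open Cfsg.Agent.Schreier.Suz (T)
open Cfsg.Agent.H895.Pron.SuzS (w)

/-- every overgroup of `T` contains `w` or is normalised by `w` -/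
theorem inv_of (B : Cfsg.Agent.H940.Eng.Base) {H : Subgroup Suz} (hT : T ≤ H) (hw : w ∉ H) :
    ∀ h ∈ H, w * h * w⁻¹ ∈ H := by
  have hfin := SuzF.fin
  obtain ⟨N, h1, h2, h3, h4⟩ := SuzF.exists_elem B hT hw
  exact SuzD.setup.inv (H := H) hT hw (N := N) h1 h2 h3 h4

theorem po_of (B : Cfsg.Agent.H940.Eng.Base) : Cfsg.Agent.H408.Pron.PO Suz := by
  have hfin := SuzF.fin
  refine Cfsg.Agent.H408.Pron.PO.of_one SuzD.P w ?_ ?_
  · intro g hg
    obtain ⟨s, hs, k, rfl⟩ := SuzD.setup.NS g hg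
    exact mul_mem (mem_sup_left hs) (mem_sup_right (pow_mem (mem_zpowers w) k))
  · intro H hH hw x hx
    exact inv_of B hH hw x hx

/-- **the row `Suz`** -/
theorem po_suz_of {K : Type*} [Group K] (B : Cfsg.Agent.H940.Eng.Base) (h : Cfsg.Spor.IsoSuz K) :
    Cfsg.Agent.H408.Pron.PO K := by
  obtain ⟨e⟩ := h
  exact Cfsg.Agent.H408.Pron.PO.congr e.symm (po_of B)

end Cfsg.Agent.H895.Pron.SuzG
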