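import Cfsg.Agent.BpSpor.SuzFiveA
import Cfsg.Agent.BpSpor.HeThree
import Cfsg.Agent.CTwoTab.Suz
import Cfsg.Agent.KFacts.SuzTwoB
import Cfsg.Agent.H503.TwoSuz

/-!
# Centralizers of elements of order 5 in `Suz` (copy of a part of `BpTab/Spor`, helper70, with small imports; helper895)

`x` of order 5: `|C(t) ∩ C(x)|` divides `32 · 5` for all involutions `t` commuting with `x`.
-/

set_option autoImplicit false
set_option maxRecDepth 100000

namespace Cfsg.Agent.H895.Pron.SuzX5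

open Subgroup Cfsg Cfsg.Spor Cfsg.Agent.BpSpor Cfsg.Agent.BpSpor.SuzFive
open Cfsg.Agent.SuzThree.Basic Cfsg.Agent.SuzThree.CentA Cfsg.Agent.SuzThree.QZero Cfsg.Agent.KFacts.SuzR
  Cfsg.Agent.KFacts.Codes Cfsg.Agent.KFacts.SuzLFour Cfsg.Agent.KFacts.SuzTwoB

/-! ### the elements of square 1 of `Q0` -/

theorem card_codes : Nat.card {c : Fin 128 // mulc BB 6 c c = 0} = 56 := by
  rw [Nat.card_eq_fintype_card]
  decide +kernel

theorem card_sqs_Q0 : Nat.card ↥(sqs Q0) = 56 := by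
  rw [← card_codes]
  symm
  have hsq : ∀ c < 128, (cod 6 z0 xx c * cod 6 z0 xx c = 1 ↔ mulc BB 6 c c = 0) := by
    intro c hc
    have hlt : mulc BB 6 c c < 2 ^ 7 := by
      revert c
      decide +kernel
    rw [cod_mul rels tri]
    constructor
    · intro h
      rw [← cod_zero (n := 6) (z := z0) (x := xx)] at h
      exact cod_injOn rels tri nondeg z_ne hlt (by norm_num) h
    · intro h
      rw [h, cod_zero]
  refine Nat.card_congr (Equiv.ofBijective (fun c => (⟨cod 6 z0 xx c.1, by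
      rw [Q0_eq]; exact cod_mem c.1, (hsq c.1 c.1.2).2 c.2⟩ : ↥(sqs Q0))) ⟨?_, ?_⟩)
  · intro a b hab
    have h1 : cod 6 z0 xx a.1 = cod 6 z0 xx b.1 := congrArg (fun y : ↥(sqs Q0) => (y : Suz)) hab
    exact Subtype.ext (Fin.ext (cod_injOn rels tri nondeg z_ne a.1.2 b.1.2 h1))
  · rintro ⟨y, hy, hyy⟩
    have hy' := hy
    rw [Q0_eq] at hy'
    obtain ⟨c, hc, rfl⟩ := (mem_RG rels tri).1 hy'
    exact ⟨⟨⟨c, hc⟩, (hsq c hc).1 hyy⟩, rfl⟩

/-! ### the class 2A -/

theorem bd_z0 : Cen.Bd 5 z0 := by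
  intro x hx hxz
  have hfin := CTwoTab.Suz.finSuz
  have h2 : Fact (Nat.Prime 2) := ⟨Nat.prime_two⟩
  have h3 : Fact (Nat.Prime 3) := ⟨Nat.prime_three⟩
  have hQ : Nat.card ↥Q0 = 2 ^ 7 := card_R
  set D := centralizer ({z0} : Set Suz) ⊓ centralizer ({x} : Set Suz) with hD
  have hDz : ∀ d ∈ D, d * z0 = z0 * d := fun d hd => mem_centralizer_singleton_iff.1 hd.1
  have hDx : ∀ d ∈ D, d * x = x * d := fun d hd => mem_centralizer_singleton_iff.1 hd.2
  have h3D : ¬ 3 ∣ Nat.card ↥D := by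
    intro h
    obtain ⟨c, hc⟩ := exists_prime_orderOf_dvd_card' 3 h
    exact not_three KFacts.SuzLarge.large hQ card_sqs_Q0 hx hxz (c := (c : Suz))
      (by rw [Subgroup.orderOf_coe]; exact hc) (hDz c c.2) (hDx c c.2)
  have h64 : ¬ 2 ^ 6 ∣ Nat.card ↥D := by
    intro h
    obtain ⟨T, hT⟩ := Sylow.exists_subgroup_card_pow_prime 2 h
    have h1 := card_two KFacts.SuzLarge.large hQ hx hxz (T := T.map D.subtype)
      (IsPGroup.of_card (n := 6) (by rw [card_map_of_injective (subtype_injective _), hT]))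
      (by rintro _ ⟨t, -, rfl⟩; exact hDz t t.2) (by rintro _ ⟨t, -, rfl⟩; exact hDx t t.2)
    rw [card_map_of_injective (subtype_injective _), hT] at h1
    norm_num at h1
  have hd : Nat.card ↥D ∣ 2 ^ 13 * 5 * 3 ^ 4 := by
    have h1 : Nat.card ↥D ∣ Nat.card ↥(centralizer ({z0} : Set Suz)) := card_dvd_of_le inf_le_left
    have h4 : Nat.card ↥(centralizer ({z0} : Set Suz)) = 3317760 := KFacts.SuzCent.card_C1
    rw [h4] at h1
    norm_num
    exact h1
  have hd2 : Nat.card ↥D ∣ 2 ^ 13 * 5 := by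
    refine Nat.Coprime.dvd_of_dvd_mul_right ?_ hd
    exact Nat.Coprime.pow_right 4 ((Nat.Prime.coprime_iff_not_dvd Nat.prime_three).2 h3D).symm
  obtain ⟨a, b, ha, hb, hab⟩ := (Nat.dvd_mul).1 hd2
  obtain ⟨i, hi, rfl⟩ := (Nat.dvd_prime_pow Nat.prime_two).1 ha
  refine ⟨1, ?_⟩
  rw [← hab, pow_one]
  refine Nat.mul_dvd_mul ?_ hb
  have hi5 : i ≤ 5 := by
    by_contra hlt
    exact h64 (by rw [← hab]; exact (pow_dvd_pow 2 (by omega)).mul_right b)
  exact pow_dvd_pow 2 hi5

/-! ### the class 2B -/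

theorem card_L_inf {x : Suz} (hx : orderOf x = 5) (hxL : x ∈ L) :
    Nat.card ↥(L ⊓ centralizer ({x} : Set Suz)) ∣ 5 := by
  have hfin := CTwoTab.Suz.finSuz
  let e := CTwoTab.SuzPlane.equiv
  have hfin2 : Finite CTwoTab.SuzPlane.PSL3 := Finite.of_equiv _ e.toEquiv
  have h2 := Cen.card_inf_dvd (C := L) (N := (⊥ : Subgroup Suz)) e.toMonoidHom (fun c hc => by
    have h3 : e c = 1 := hc
    have h4 : c = 1 := e.injective (by rw [h3, map_one])
    rw [h4]
    exact one_mem _) ⟨x, hxL⟩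
  have h3 : Nat.card ↥((⊥ : Subgroup Suz) ⊓ centralizer ({x} : Set Suz)) = 1 := by
    rw [bot_inf_eq, card_bot]
  rw [h3, one_mul] at h2
  have ho : orderOf (e ⟨x, hxL⟩) = 5 := by
    rw [MulEquiv.orderOf_eq, ← Subgroup.orderOf_coe]
    exact hx
  exact h2.trans (dvd_of_eq (LFour.card_five ho))

theorem sq_mem {G : Type*} [Group G] {A : Subgroup G} {x : G} (hx : orderOf x = 5) (h : x * x ∈ A) : x ∈ A := by
  have h2 : x = (x * x) ^ 3 := by
    have h3 : x ^ 5 = 1 := by rw [← hx, pow_orderOf_eq_one]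
    calc x = x ^ 5 * x := by rw [h3, one_mul]
      _ = (x * x) ^ 3 := by rw [← pow_two, ← pow_mul, ← pow_succ]
  rw [h2]
  exact A.pow_mem h _

theorem bd_e0 : Cen.Bd 5 e0 := by
  intro x hx hxe
  have hfin := CTwoTab.Suz.finSuz
  have hCE : ∀ c d : Suz, c ∈ CE → d ∈ CE → c ∈ VL ∨ d ∈ VL ∨ c * d ∈ VL := by
    intro c d hc hd
    by_cases h1 : c ∈ VL
    · exact Or.inl h1
    by_cases h2 : d ∈ VL
    · exact Or.inr (Or.inl h2)
    right; right
    have h3 := (mul_mem_iff_of_index_two idx.1 (a := (⟨c, hc⟩ : ↥CE)) (b := ⟨d, hd⟩)).2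
      ⟨fun h => absurd (mem_subgroupOf.1 h) h1, fun h => absurd (mem_subgroupOf.1 h) h2⟩
    exact mem_subgroupOf.1 h3
  have hxC : x ∈ CE := mem_CE.2 hxe
  have hxVL : x ∈ VL := by
    refine sq_mem hx ?_
    rcases hCE x x hxC hxC with h | h | h
    · exact VL.mul_mem h h
    · exact VL.mul_mem h h
    · exact h
  have hxL : x ∈ L := by
    refine sq_mem hx ?_
    obtain ⟨v, hv, l, hl, rfl⟩ := mem_VL.1 hxVL
    have h1 : v * l = l * v := V_comm v hv l hl
    have h2 : v * v = 1 := by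
      have := CTwoTab.Suz.sq_V hv
      rwa [pow_one, pow_two] at this
    have h3 : v * l * (v * l) = l * l := by
      calc v * l * (v * l) = v * l * (l * v) := by rw [h1]
        _ = v * (l * l) * v := by group
        _ = v * (v * (l * l)) := by rw [mul_assoc, V_comm v hv _ (L.mul_mem hl hl)]
        _ = l * l := by rw [← mul_assoc, h2, one_mul]
    rw [h3]
    exact L.mul_mem hl hl
  set D := centralizer ({e0} : Set Suz) ⊓ centralizer ({x} : Set Suz) with hD
  have h1 := Cen.card_of_two D VL fun c hc d hd => hCE c d hc.1 hd.1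
  have h2 : Nat.card ↥(D ⊓ VL) ∣ 4 * 5 := by
    have hVx : ∀ v ∈ V, v * x = x * v := fun v hv => V_comm v hv x hxL
    have hle : ∀ (v : ↥V) (l : ↥(L ⊓ centralizer ({x} : Set Suz))), (v : Suz) * l ∈ D ⊓ VL := by
      intro v l
      have h3 : (v : Suz) * l ∈ VL := ⟨v, v.2, l, l.2.1, rfl⟩
      refine ⟨⟨VL_le h3, mem_centralizer_singleton_iff.2 ?_⟩, h3⟩
      rw [mul_assoc, mem_centralizer_singleton_iff.1 l.2.2, ← mul_assoc, hVx v v.2, mul_assoc]
    let f : ↥V × ↥(L ⊓ centralizer ({x} : Set Suz)) →* ↥(D ⊓ VL) :=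
      { toFun := fun a => ⟨(a.1 : Suz) * a.2, hle a.1 a.2⟩
        map_one' := Subtype.ext (by simp)
        map_mul' := fun a b => Subtype.ext (by
          change ((a.1 * b.1 : ↥V) : Suz) * ((a.2 * b.2 : ↥(L ⊓ centralizer ({x} : Set Suz))) : Suz) =
            (a.1 : Suz) * a.2 * ((b.1 : Suz) * b.2)
          rw [Subgroup.coe_mul, Subgroup.coe_mul]
          have h4 : (b.1 : Suz) * a.2 = a.2 * b.1 := V_comm b.1 b.1.2 a.2 a.2.2.1
          calc (a.1 : Suz) * b.1 * (a.2 * b.2) = a.1 * (b.1 * a.2) * b.2 := by group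
            _ = a.1 * a.2 * (b.1 * b.2) := by rw [h4]; group) }
    have hf : Function.Surjective f := by
      rintro ⟨d, hd1, hd2⟩
      obtain ⟨v, hv, l, hl, rfl⟩ := mem_VL.1 hd2
      have h4 := mem_centralizer_singleton_iff.1 hd1.2
      have h5 : l * x = x * l := by
        have h6 : v * (l * x) = v * (x * l) := by
          calc v * (l * x) = v * l * x := by group
            _ = x * (v * l) := h4
            _ = (x * v) * l := by group
            _ = v * (x * l) := by rw [← hVx v hv]; group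
        exact mul_left_cancel h6
      exact ⟨(⟨v, hv⟩, ⟨l, hl, mem_centralizer_singleton_iff.2 h5⟩), rfl⟩
    have h3 := card_dvd_of_surjective f hf
    rw [Nat.card_prod, card_V] at h3
    exact h3.trans (Nat.mul_dvd_mul_left 4 (card_L_inf hx hxL))
  exact ⟨1, (h1.trans (Nat.mul_dvd_mul_left 2 h2)).trans (by norm_num)⟩


theorem bd {t : Suz} (ht : orderOf t = 2) : Cen.Bd 5 t := by
  have htt : t * t = 1 := by rw [← pow_two, ← ht, pow_orderOf_eq_one]
  have ht1 : t ≠ 1 := by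
    rintro rfl
    rw [orderOf_one] at ht
    omega
  rcases CTwoTab.Suz.classes htt ht1 with h | h
  · exact bd_z0.conj h
  · exact bd_e0.conj h

/-- a central involution of a subgroup of order `2 ^ n` -/
theorem exists_central {K : Type*} [Group K] [Finite K] {P : Subgroup K} {n : ℕ} (hn : n ≠ 0) (hP : Nat.card P = 2 ^ n) :
    ∃ t ∈ P, orderOf t = 2 ∧ ∀ x ∈ P, x * t = t * x := by
  have h2 : Fact (Nat.Prime 2) := ⟨Nat.prime_two⟩
  have hPp : IsPGroup 2 P := IsPGroup.of_card hP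
  have hnt : Nontrivial P := by
    rw [← Finite.one_lt_card_iff_nontrivial, hP]
    exact Nat.one_lt_two_pow hn
  have hZ := hPp.center_nontrivial
  obtain ⟨t, ht⟩ := exists_prime_orderOf_dvd_card' (G := center P) 2 (by
    obtain ⟨k, hk0, hk⟩ := (hPp.to_subgroup (center P)).nontrivial_iff_card.1 hZ
    rw [hk]
    exact dvd_pow_self 2 (by omega))
  refine ⟨((t : P) : K), (t : P).2, ?_, fun x hx => ?_⟩
  · rw [← ht, orderOf_submonoid, orderOf_submonoid]
  · have h1 := (mem_center_iff.1 t.2) ⟨x, hx⟩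
    exact congrArg Subtype.val h1

/-- **the 2-part of the centralizer of an element of order 5** -/
theorem not_64 {x : Suz} (hx : orderOf x = 5) : ¬ 2 ^ 6 ∣ Nat.card ↥(centralizer ({x} : Set Suz)) := by
  intro h
  have hfin := CTwoTab.Suz.finSuz
  have h2 : Fact (Nat.Prime 2) := ⟨Nat.prime_two⟩
  obtain ⟨P, hP⟩ := Sylow.exists_subgroup_card_pow_prime 2 h
  have hP' : Nat.card ↥(P.map (centralizer ({x} : Set Suz)).subtype) = 2 ^ 6 := by
    rw [card_map_of_injective (subtype_injective _), hP]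
  obtain ⟨t, ht, hto, htc⟩ := exists_central (by norm_num) hP'
  have hPx : P.map (centralizer ({x} : Set Suz)).subtype ≤ centralizer ({x} : Set Suz) := by
    rintro _ ⟨y, -, rfl⟩
    exact y.2
  have hle : P.map (centralizer ({x} : Set Suz)).subtype ≤
      centralizer ({t} : Set Suz) ⊓ centralizer ({x} : Set Suz) := fun y hy =>
    ⟨mem_centralizer_singleton_iff.2 (htc y hy), hPx hy⟩
  obtain ⟨n, hn⟩ := bd hto x hx (mem_centralizer_singleton_iff.1 (hPx ht)).symm
  have h3 : 2 ^ 6 ∣ 32 * 5 ^ n := by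
    rw [← hP']
    exact (card_dvd_of_le hle).trans hn
  have h4 : 2 ∣ 5 ^ n := by
    have h5 : 32 * 2 ∣ 32 * 5 ^ n := by simpa using h3
    exact Nat.dvd_of_mul_dvd_mul_left (by norm_num) h5
  have h5 := Nat.prime_two.dvd_of_dvd_pow h4
  norm_num at h5

/-- no involution commutes with a subgroup of order 25 -/
theorem not_25 {R : Subgroup Suz} (hR : 25 ∣ Nat.card R) : ¬ 2 ∣ Nat.card ↥(centralizer (R : Set Suz)) := by
  intro h
  have hfin := CTwoTab.Suz.finSuz
  have h2 : Fact (Nat.Prime 2) := ⟨Nat.prime_two⟩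
  obtain ⟨t, ht⟩ := exists_prime_orderOf_dvd_card' 2 h
  have hto : orderOf (t : Suz) = 2 := by rw [Subgroup.orderOf_coe]; exact ht
  have hle : R ≤ centralizer ({(t : Suz)} : Set Suz) := fun r hr =>
    mem_centralizer_singleton_iff.2 (mem_centralizer_iff.1 t.2 r hr)
  exact H503.TwoSuz.not_dvd_two (p := 25) (by norm_num) (by norm_num) hto (hR.trans (card_dvd_of_le hle))

end Cfsg.Agent.H895.Pron.SuzX5
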