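import Mathlib


/-!
# Overgroups of a Sylow 2-subgroup `S` with `|N(S) : S| = 3` (helper895)

* `star` : `X` is normalised by `H`, `w ∈ X ≤ S ⟨w⟩`, `S ≤ H`: then `w` normalises `H`;
* `Setup`, `Setup.inv` : the 2-local part of the row `Suz` of S2527.
-/

set_option autoImplicit false

namespace Cfsg.Agent.H895.Pron

open Subgroup

universe u

variable {G : Type u} [Group G]

/-- powers of `s w ^ k` -/
theorem cube_mem {Y : Subgroup G} {w s : G} (hw3 : w ^ 3 = 1) (hwY : ∀ y ∈ Y, w * y * w⁻¹ ∈ Y) (hs : s ∈ Y) (k : ℕ) :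
    (s * w ^ k) ^ 3 ∈ Y := by
  have hk : ∀ (n : ℕ) (y : G), y ∈ Y → w ^ n * y * (w ^ n)⁻¹ ∈ Y := by
    intro n
    induction n with
    | zero => intro y hy; simpa using hy
    | succ n ih =>
      intro y hy
      have := ih _ (hwY y hy)
      have e : w ^ (n + 1) * y * (w ^ (n + 1))⁻¹ = w ^ n * (w * y * w⁻¹) * (w ^ n)⁻¹ := by
        rw [pow_succ]; group
      rwa [e]
  have h3 : (w ^ k) ^ 3 = 1 := by rw [← pow_mul, mul_comm, pow_mul, hw3, one_pow]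
  have e : (s * w ^ k) ^ 3 = s * (w ^ k * s * (w ^ k)⁻¹) * (w ^ (2 * k) * s * (w ^ (2 * k))⁻¹) * (w ^ k) ^ 3 := by
    have e2 : w ^ (2 * k) = w ^ k * w ^ k := by rw [two_mul, pow_add]
    rw [e2]
    simp only [pow_succ, pow_zero, one_mul, mul_inv_rev, mul_assoc, inv_mul_cancel_left]
  rw [e, h3, mul_one]
  exact Y.mul_mem (Y.mul_mem hs (hk k s hs)) (hk (2 * k) s hs)

/-- an element of 2-power order whose cube lies in `Y` lies in `Y` -/
theorem mem_of_cube {Y : Subgroup G} {x : G} {n : ℕ} (h2 : x ^ 2 ^ n = 1) (h3 : x ^ 3 ∈ Y) : x ∈ Y := by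
  have hco : Nat.Coprime 3 (2 ^ n) := Nat.Coprime.pow_right n (by norm_num)
  obtain ⟨c, hc1, hc2⟩ := Nat.chineseRemainder hco 0 1
  have h1 : 3 ∣ c := Nat.modEq_zero_iff_dvd.1 hc1
  obtain ⟨d, rfl⟩ := h1
  have hx : x ^ (3 * d) = x := by
    have h4 : orderOf x ∣ 2 ^ n := orderOf_dvd_of_pow_eq_one h2
    have h5 : 3 * d ≡ 1 [MOD orderOf x] := hc2.of_dvd h4
    have h6 := (pow_eq_pow_iff_modEq (x := x)).2 h5
    rwa [pow_one] at h6
  rw [← hx, pow_mul]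
  exact Y.pow_mem h3 d

/-- **the basic lemma** -/
theorem star [Finite G] (S : Sylow 2 G) {w : G} (hwS : w ∈ normalizer ((S : Subgroup G) : Set G)) (hw3 : w ^ 3 = 1)
    {X H : Subgroup G} (hwX : w ∈ X) (hXB : ∀ x ∈ X, ∃ s ∈ (S : Subgroup G), ∃ k : ℕ, x = s * w ^ k)
    (hSH : (S : Subgroup G) ≤ H) (hHX : ∀ h ∈ H, ∀ x ∈ X, h * x * h⁻¹ ∈ X) : ∀ h ∈ H, w * h * w⁻¹ ∈ H := by
  classical
  set Y : Subgroup G := (S : Subgroup G) ⊓ X with hY
  have hwY : ∀ y ∈ Y, w * y * w⁻¹ ∈ Y := fun y hy =>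
    ⟨(mem_normalizer_iff.1 hwS y).1 hy.1, X.mul_mem (X.mul_mem hwX hy.2) (X.inv_mem hwX)⟩
  have hX3 : ∀ x ∈ X, x ^ 3 ∈ Y := by
    intro x hx
    obtain ⟨s, hs, k, rfl⟩ := hXB x hx
    have hsX : s ∈ X := by
      have h1 := X.mul_mem hx (X.inv_mem (X.pow_mem hwX k))
      rwa [mul_inv_cancel_right] at h1
    exact cube_mem hw3 hwY ⟨hs, hsX⟩ k
  -- `H` normalises `Y`
  have hHY : ∀ h ∈ H, ∀ y ∈ Y, h * y * h⁻¹ ∈ Y := by
    intro h hh y hy
    obtain ⟨n, hn⟩ := (IsPGroup.iff_orderOf.1 S.isPGroup') ⟨y, hy.1⟩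
    have hyn : y ^ 2 ^ n = 1 := by
      rw [← hn, Subgroup.orderOf_mk, pow_orderOf_eq_one]
    refine mem_of_cube (n := n) ?_ (hX3 _ (hHX h hh y hy.2))
    rw [conj_pow, hyn]; group
  by_cases hwY' : w ∈ Y
  · intro h hh
    exact H.mul_mem (H.mul_mem (hSH hwY'.1) hh) (H.inv_mem (hSH hwY'.1))
  -- the two types
  have htype : ∀ h ∈ H, h * w * h⁻¹ * w⁻¹ ∈ Y ∨ h * w * h⁻¹ * w ∈ Y := by
    intro h hh
    obtain ⟨s, hs, k, hk⟩ := hXB _ (hHX h hh w hwX)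
    have hsX : s ∈ X := by
      have h1 := X.mul_mem (hHX h hh w hwX) (X.inv_mem (X.pow_mem hwX k))
      rw [hk, mul_inv_cancel_right] at h1
      exact h1
    have hsY : s ∈ Y := ⟨hs, hsX⟩
    have hkm : w ^ k = w ^ (k % 3) := by
      conv_lhs => rw [← Nat.div_add_mod k 3, pow_add, pow_mul, hw3, one_pow, one_mul]
    rw [hkm] at hk
    have hlt : k % 3 < 3 := Nat.mod_lt _ (by norm_num)
    interval_cases hk' : k % 3
    · exfalso
      rw [pow_zero, mul_one] at hk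
      have h1 : w = h⁻¹ * s * h⁻¹⁻¹ := by rw [← hk]; group
      rw [h1] at hwY'
      exact hwY' (hHY _ (H.inv_mem hh) _ hsY)
    · left
      rw [hk, pow_one, mul_inv_cancel_right]; exact hsY
    · right
      rw [hk, mul_assoc, ← pow_succ, hw3, mul_one]; exact hsY
  let K0 : Subgroup G :=
    { carrier := {h | h ∈ H ∧ h * w * h⁻¹ * w⁻¹ ∈ Y}
      one_mem' := ⟨H.one_mem, by simp [Y.one_mem]⟩
      mul_mem' := by
        rintro a b ⟨ha, ha'⟩ ⟨hb, hb'⟩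
        refine ⟨H.mul_mem ha hb, ?_⟩
        have h1 := Y.mul_mem (hHY a ha _ hb') ha'
        have e : a * (b * w * b⁻¹ * w⁻¹) * a⁻¹ * (a * w * a⁻¹ * w⁻¹) = a * b * w * (a * b)⁻¹ * w⁻¹ := by group
        rwa [e] at h1
      inv_mem' := by
        rintro a ⟨ha, ha'⟩
        refine ⟨H.inv_mem ha, ?_⟩
        have h1 := hHY _ (H.inv_mem ha) _ (Y.inv_mem ha')
        have e : a⁻¹ * (a * w * a⁻¹ * w⁻¹)⁻¹ * a⁻¹⁻¹ = a⁻¹ * w * a⁻¹⁻¹ * w⁻¹ := by group
        rwa [e] at h1 }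
  have hSK : (S : Subgroup G) ≤ K0 := by
    intro s hs
    refine ⟨hSH hs, ?_, ?_⟩
    · have h1 := (mem_normalizer_iff.1 hwS s⁻¹).1 ((S : Subgroup G).inv_mem hs)
      have h2 := (S : Subgroup G).mul_mem hs h1
      have e : s * (w * s⁻¹ * w⁻¹) = s * w * s⁻¹ * w⁻¹ := by group
      rwa [e] at h2
    · exact X.mul_mem (hHX s (hSH hs) w hwX) (X.inv_mem hwX)
  have hK : H ≤ K0 := by
    by_contra hne
    obtain ⟨a, ha, haK⟩ := SetLike.not_le_iff_exists.1 hne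
    have hidx : (K0.subgroupOf H).index = 2 := by
      rw [index_eq_two_iff]
      refine ⟨⟨a, ha⟩, ?_⟩
      rintro ⟨b, hb⟩
      have ha2 : a * w * a⁻¹ * w ∈ Y := (htype a ha).resolve_left fun h => haK ⟨ha, h⟩
      simp only [mem_subgroupOf]
      show Xor (b * a ∈ K0) (b ∈ K0)
      by_cases hbK : b ∈ K0
      · right
        refine ⟨hbK, fun hba => haK ?_⟩
        have := K0.mul_mem (K0.inv_mem hbK) hba
        rwa [inv_mul_cancel_left] at this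
      · left
        refine ⟨⟨H.mul_mem hb ha, ?_⟩, hbK⟩
        have hb2 : b * w * b⁻¹ * w ∈ Y := (htype b hb).resolve_left fun h => hbK ⟨hb, h⟩
        -- `b a w a⁻¹ b⁻¹ w⁻¹ = b (a w a⁻¹ w) b⁻¹ · (b w⁻¹ b⁻¹ w⁻¹)`
        have h1 := Y.mul_mem (hHY b hb _ ha2) (hwY _ (Y.inv_mem hb2) |> fun h => h)
        have h3 : b * w⁻¹ * b⁻¹ * w⁻¹ ∈ Y := by
          have h4 := hwY _ (hwY _ (Y.inv_mem hb2))
          -- `(b w b⁻¹ w)⁻¹ = w⁻¹ b w⁻¹ b⁻¹`
          have e : w * (w * (b * w * b⁻¹ * w)⁻¹ * w⁻¹) * w⁻¹ = w ^ 3 * w⁻¹ * w⁻¹ * (b * w⁻¹ * b⁻¹ * w⁻¹) * w⁻¹ := by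
            group
          have h5 := hwY _ (Y.inv_mem hb2)
          have e5 : w * (b * w * b⁻¹ * w)⁻¹ * w⁻¹ = b * w⁻¹ * b⁻¹ * w⁻¹ := by group
          rwa [e5] at h5
        have h4 := Y.mul_mem (hHY b hb _ ha2) h3
        have e : b * (a * w * a⁻¹ * w) * b⁻¹ * (b * w⁻¹ * b⁻¹ * w⁻¹) = b * a * w * (b * a)⁻¹ * w⁻¹ := by group
        rwa [e] at h4
    have hodd : ¬ 2 ∣ (((S : Subgroup G).subgroupOf H)).index := by
      have h1 : ((S : Subgroup G).subgroupOf H).index ∣ (S : Subgroup G).index := relIndex_dvd_index_of_le hSH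
      exact fun h => S.not_dvd_index (h.trans h1)
    apply hodd
    have h1 : (K0.subgroupOf H).index ∣ ((S : Subgroup G).subgroupOf H).index := index_dvd_of_le fun x hx => hSK hx
    rwa [hidx] at h1
  intro h hh
  have h1 := (hK hh).2
  have h2 : w * h⁻¹ * w⁻¹ = h⁻¹ * (h * w * h⁻¹ * w⁻¹) := by group
  have h3 : w * h⁻¹ * w⁻¹ ∈ H := by rw [h2]; exact H.mul_mem (H.inv_mem hh) (hSH h1.1)
  have h4 : w * h * w⁻¹ = (w * h⁻¹ * w⁻¹)⁻¹ := by group
  rw [h4]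
  exact H.inv_mem h3

/-- the data -/
structure Setup (S : Sylow 2 G) (z w : G) (A1 A2 V Q : Subgroup G) : Prop where
  zc : ∀ s ∈ (S : Subgroup G), s * z = z * s
  wz : w * z = z * w
  wN : w ∈ normalizer ((S : Subgroup G) : Set G)
  w3 : w ^ 3 = 1
  zA1 : z ∈ A1
  A12 : A1 ≤ A2
  A2V : A2 ≤ V
  VS : V ≤ (S : Subgroup G)
  nA1 : ∀ s ∈ (S : Subgroup G), ∀ a ∈ A1, s * a * s⁻¹ ∈ A1
  wV : ∀ v ∈ V, w * v = v * w
  NS : ∀ g ∈ normalizer ((S : Subgroup G) : Set G), ∃ s ∈ (S : Subgroup G), ∃ k : ℕ, g = s * w ^ k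
  B : ∀ g : G, g * z = z * g → (∀ a ∈ A1, g * a * g⁻¹ ∈ A1) → (∀ a ∈ A2, g * a * g⁻¹ ∈ A2) →
    ∃ s ∈ (S : Subgroup G), ∃ k : ℕ, g = s * w ^ k
  QS : Q ≤ (S : Subgroup G)
  nQ : ∀ g : G, g * z = z * g → ∀ q ∈ Q, g * q * g⁻¹ ∈ Q
  cov : ∀ s ∈ (S : Subgroup G), ∃ q ∈ Q, ∀ a ∈ A1, q⁻¹ * s * a = a * (q⁻¹ * s)
  FB : ∀ H : Subgroup G, (S : Subgroup G) ≤ H → (∀ h ∈ H, h * z = z * h) → w ∉ H → ∀ h ∈ H, ∀ a ∈ A2, h * a * h⁻¹ ∈ A2
  EL : ∀ N : Subgroup G, N ≤ (S : Subgroup G) → (∀ s ∈ (S : Subgroup G), ∀ n ∈ N, s * n * s⁻¹ ∈ N) →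
    (∀ n ∈ N, n * n = 1) → N ≠ ⊥ → (∀ n ∈ N, n = 1 ∨ n = z) ∨ N = A1 ∨ (A2 ≤ N ∧ N ≤ V)

theorem commute_of_sq {N : Subgroup G} (h2 : ∀ n ∈ N, n * n = 1) {a b : G} (ha : a ∈ N) (hb : b ∈ N) : a * b = b * a := by
  have e : ∀ n ∈ N, n⁻¹ = n := fun n hn => inv_eq_of_mul_eq_one_right (h2 n hn)
  calc a * b = (a * b)⁻¹ := (e _ (N.mul_mem ha hb)).symm
    _ = b⁻¹ * a⁻¹ := mul_inv_rev _ _
    _ = b * a := by rw [e a ha, e b hb]

/-- **the overgroups of `S` with a normal elementary abelian 2-subgroup** -/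
theorem Setup.inv [Finite G] {S : Sylow 2 G} {z w : G} {A1 A2 V Q : Subgroup G} (D : Setup S z w A1 A2 V Q)
    {H : Subgroup G} (hSH : (S : Subgroup G) ≤ H) (hw : w ∉ H) {N : Subgroup G} (hNS : N ≤ (S : Subgroup G))
    (hN : ∀ h ∈ H, ∀ n ∈ N, h * n * h⁻¹ ∈ N) (h2 : ∀ n ∈ N, n * n = 1) (hne : N ≠ ⊥) : ∀ h ∈ H, w * h * w⁻¹ ∈ H := by
  -- the case of a group normalising a subgroup between `A2` and `V`
  have key : ∀ M : Subgroup G, A2 ≤ M → M ≤ V → (∀ h ∈ H, ∀ n ∈ M, h * n * h⁻¹ ∈ M) → ∀ h ∈ H, w * h * w⁻¹ ∈ H := by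
    intro M hAM hMV hM
    have hVc : ∀ a ∈ A2, ∀ x : G, x ∈ centralizer (M : Set G) → x * a = a * x := fun a ha x hx =>
      (mem_centralizer_iff.1 hx a (hAM ha)).symm
    refine star S D.wN D.w3 (X := centralizer (M : Set G)) ?_ ?_ hSH ?_
    · rw [mem_centralizer_iff]
      intro m hm
      exact (D.wV m (hMV hm)).symm
    · intro x hx
      refine D.B x (hVc z (D.A12 D.zA1) x hx) (fun a ha => ?_) (fun a ha => ?_)
      · rw [hVc a (D.A12 ha) x hx, mul_inv_cancel_right]; exact ha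
      · rw [hVc a ha x hx, mul_inv_cancel_right]; exact ha
    · intro h hh x hx
      rw [mem_centralizer_iff] at hx ⊢
      intro m hm
      have h1 := hM h⁻¹ (H.inv_mem hh) m hm
      have h3 := hx _ h1
      calc m * (h * x * h⁻¹) = h * ((h⁻¹ * m * h⁻¹⁻¹) * x) * h⁻¹ := by group
        _ = h * (x * (h⁻¹ * m * h⁻¹⁻¹)) * h⁻¹ := by rw [h3]
        _ = h * x * h⁻¹ * m := by group
  rcases D.EL N hNS (fun s hs => hN s (hSH hs)) h2 hne with h | h | ⟨h, h'⟩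
  · -- `N = ⟨z⟩`
    have hz : ∀ x ∈ H, x * z = z * x := by
      intro x hx
      obtain ⟨n, hn, hn1⟩ : ∃ n ∈ N, n ≠ 1 := by
        by_contra hc
        push Not at hc
        exact hne ((eq_bot_iff_forall N).2 hc)
      have hnz : n = z := (h n hn).resolve_left hn1
      subst hnz
      rcases h _ (hN x hx n hn) with h1 | h1
      · exfalso
        apply hn1
        have : n = x⁻¹ * (x * n * x⁻¹) * x := by group
        rw [this, h1]; group
      · exact mul_inv_eq_iff_eq_mul.1 h1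
    exact key A2 le_rfl D.A2V (D.FB H hSH hz hw)
  · -- `N = A1`
    subst h
    have hzS : z ∈ (S : Subgroup G) := hNS D.zA1
    -- `H ⊓ C(N) = S ⊓ C(N)`
    have hHC : ∀ x ∈ H, x ∈ centralizer (N : Set G) → x ∈ (S : Subgroup G) := by
      intro x hx hxC
      have hxz : x * z = z * x := (mem_centralizer_iff.1 hxC z D.zA1).symm
      have h1 := D.FB (H ⊓ centralizer ({z} : Set G)) (fun s hs => ⟨hSH hs, mem_centralizer_singleton_iff.2 (D.zc s hs)⟩)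
        (fun y hy => mem_centralizer_singleton_iff.1 hy.2) (fun h => hw h.1) x ⟨hx, mem_centralizer_singleton_iff.2 hxz⟩
      obtain ⟨s, hs, k, hk⟩ := D.B x hxz (fun a ha => by
        rw [← mem_centralizer_iff.1 hxC a ha, mul_inv_cancel_right]; exact ha) h1
      have hwk : w ^ k ∈ H := by
        have := H.mul_mem (H.inv_mem (hSH hs)) hx
        rwa [hk, inv_mul_cancel_left] at this
      have hkm : w ^ k = w ^ (k % 3) := by
        conv_lhs => rw [← Nat.div_add_mod k 3, pow_add, pow_mul, D.w3, one_pow, one_mul]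
      rw [hkm] at hwk
      have hlt : k % 3 < 3 := Nat.mod_lt _ (by norm_num)
      rw [hk, hkm]
      interval_cases hk' : k % 3
      · rw [pow_zero, mul_one]; exact hs
      · exfalso; rw [pow_one] at hwk; exact hw hwk
      · exfalso
        apply hw
        have h4 : w = (w ^ 2) ^ 2 := by rw [← pow_mul, show 2 * 2 = 3 + 1 by norm_num, pow_succ, D.w3, one_mul]
        rw [h4]
        exact H.pow_mem hwk 2
    -- the subgroup `X`
    let S1 : Subgroup G := (S : Subgroup G) ⊓ centralizer (N : Set G)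
    have hconjC : ∀ h ∈ H, ∀ x ∈ centralizer (N : Set G), h * x * h⁻¹ ∈ centralizer (N : Set G) := by
      intro h hh x hx
      rw [mem_centralizer_iff] at hx ⊢
      intro m hm
      have h1 := hN h⁻¹ (H.inv_mem hh) m hm
      have h3 := hx _ h1
      calc m * (h * x * h⁻¹) = h * ((h⁻¹ * m * h⁻¹⁻¹) * x) * h⁻¹ := by group
        _ = h * (x * (h⁻¹ * m * h⁻¹⁻¹)) * h⁻¹ := by rw [h3]
        _ = h * x * h⁻¹ * m := by group
    have hS1 : ∀ h ∈ H, ∀ x ∈ S1, h * x * h⁻¹ ∈ S1 := by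
      intro h hh x hx
      have h1 := hconjC h hh x hx.2
      exact ⟨hHC _ (H.mul_mem (H.mul_mem hh (hSH hx.1)) (H.inv_mem hh)) h1, h1⟩
    have hHn : H ≤ normalizer (S1 : Set G) := by
      intro h hh
      rw [mem_normalizer_iff]
      intro x
      refine ⟨hS1 h hh x, fun hx => ?_⟩
      have := hS1 h⁻¹ (H.inv_mem hh) _ hx
      have e : h⁻¹ * (h * x * h⁻¹) * h⁻¹⁻¹ = x := by group
      rwa [e] at this
    have hwC : w ∈ centralizer (N : Set G) := by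
      rw [mem_centralizer_iff]
      intro m hm
      exact (D.wV m (D.A2V (D.A12 hm))).symm
    have hwS1 : w ∈ normalizer (S1 : Set G) := by
      rw [mem_normalizer_iff]
      intro x
      constructor
      · intro hx
        exact ⟨(mem_normalizer_iff.1 D.wN x).1 hx.1, Subgroup.mul_mem _ (Subgroup.mul_mem _ hwC hx.2) (Subgroup.inv_mem _ hwC)⟩
      · intro hx
        refine ⟨(mem_normalizer_iff.1 D.wN x).2 hx.1, ?_⟩
        have := Subgroup.mul_mem _ (Subgroup.mul_mem _ (Subgroup.inv_mem _ hwC) hx.2) hwC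
        have e : w⁻¹ * (w * x * w⁻¹) * w = x := by group
        rwa [e] at this
    refine star S D.wN D.w3 (X := normalizer (S1 : Set G) ⊓ centralizer (N : Set G)) ⟨hwS1, hwC⟩ ?_ hSH ?_
    · rintro x ⟨hx, hxC⟩
      apply D.NS
      have hxz : x * z = z * x := (mem_centralizer_iff.1 hxC z D.zA1).symm
      have hmem : ∀ y : G, y * z = z * y → y ∈ normalizer (S1 : Set G) → ∀ s ∈ (S : Subgroup G), y * s * y⁻¹ ∈ (S : Subgroup G) := by
        intro y hyz hy s hs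
        obtain ⟨q, hq, hqs⟩ := D.cov s hs
        have h1 : q⁻¹ * s ∈ S1 := ⟨Subgroup.mul_mem _ (Subgroup.inv_mem _ (D.QS hq)) hs, mem_centralizer_iff.2 fun a ha => (hqs a ha).symm⟩
        have h3 := ((mem_normalizer_iff.1 hy _).1 h1).1
        have h4 := D.QS (D.nQ y hyz q hq)
        have e : y * s * y⁻¹ = y * q * y⁻¹ * (y * (q⁻¹ * s) * y⁻¹) := by group
        rw [e]
        exact Subgroup.mul_mem _ h4 h3
      rw [mem_normalizer_iff]
      intro s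
      refine ⟨hmem x hxz hx s, fun hs => ?_⟩
      have h1 := hmem x⁻¹ (by
        rw [inv_mul_eq_iff_eq_mul, ← mul_assoc, hxz, mul_inv_cancel_right]) (Subgroup.inv_mem _ hx) _ hs
      have e : x⁻¹ * (x * s * x⁻¹) * x⁻¹⁻¹ = s := by group
      rwa [e] at h1
    · intro h hh x hx
      exact ⟨Subgroup.mul_mem _ (Subgroup.mul_mem _ (hHn hh) hx.1) (Subgroup.inv_mem _ (hHn hh)), hconjC h hh x hx.2⟩
  · exact key N h h' hN

end Cfsg.Agent.H895.Pron
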