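import Mathlib

/-!
# Numbers from the Frattini argument (helper895)
-/

set_option autoImplicit false

namespace Cfsg.Agent.H895.Pron.Frat

open Subgroup

theorem mem_normalizer_map {G : Type*} [Group G] {N : Subgroup G} {P : Subgroup N} {x : N} :
    (x : G) ∈ normalizer ((P.map N.subtype : Subgroup G) : Set G) ↔ x ∈ normalizer (P : Set N) := by
  have key : ∀ y : N, (y : G) ∈ P.map N.subtype ↔ y ∈ P := by
    intro y
    constructor
    · rintro ⟨z, hz, hzy⟩
      have : z = y := Subtype.ext hzy
      rwa [← this]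
    · intro hy
      exact ⟨y, hy, rfl⟩
  rw [mem_normalizer_iff, mem_normalizer_iff]
  constructor
  · intro h y
    have h1 := h (y : G)
    rw [key] at h1
    have h2 : (x : G) * y * (x : G)⁻¹ = ((x * y * x⁻¹ : N) : G) := rfl
    rw [h2, key] at h1
    exact h1
  · intro h y
    constructor
    · rintro ⟨z, hz, rfl⟩
      exact ⟨x * z * x⁻¹, (h z).1 hz, rfl⟩
    · rintro ⟨z, hz, hzy⟩
      have h3 : y = ((x⁻¹ * z * x : N) : G) := by
        have : (z : G) = x * y * (x : G)⁻¹ := hzy
        show y = (x : G)⁻¹ * z * x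
        rw [this]; group
      rw [h3]
      refine ⟨x⁻¹ * z * x, (h _).2 ?_, rfl⟩
      have e : x * (x⁻¹ * z * x) * x⁻¹ = z := by group
      rw [e]; exact hz

theorem card_inf_eq {G : Type*} [Group G] {N : Subgroup G} {P : Subgroup N} :
    Nat.card (N ⊓ normalizer ((P.map N.subtype : Subgroup G) : Set G) : Subgroup G) =
      Nat.card (normalizer (P : Set N)) := by
  have h : N ⊓ normalizer ((P.map N.subtype : Subgroup G) : Set G) = (normalizer (P : Set N)).map N.subtype := by
    ext y
    constructor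
    · rintro ⟨hy, hy'⟩
      exact ⟨⟨y, hy⟩, mem_normalizer_map.1 hy', rfl⟩
    · rintro ⟨x, hx, rfl⟩
      exact ⟨x.2, mem_normalizer_map.2 hx⟩
  rw [h, card_map_of_injective (subtype_injective _)]

theorem top {X : Type*} [Group X] [Finite X] (N : Subgroup X) [N.Normal] (r : ℕ) [hr : Fact r.Prime] :
    ∃ R : Subgroup X, R ≤ N ∧ Nat.card R = r ^ (Nat.card N).factorization r ∧
      Nat.card X * Nat.card (N ⊓ normalizer (R : Set X) : Subgroup X) = Nat.card N * Nat.card (normalizer (R : Set X)) ∧
      Nat.card N / Nat.card (N ⊓ normalizer (R : Set X) : Subgroup X) ≡ 1 [MOD r] := by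
  obtain ⟨P⟩ : Nonempty (Sylow r N) := inferInstance
  refine ⟨(P : Subgroup N).map N.subtype, map_subtype_le _, ?_, ?_, ?_⟩
  · rw [card_map_of_injective (subtype_injective _), P.card_eq_multiplicity]
  · have h1 := P.normalizer_sup_eq_top
    have h2 := relIndex_sup_right (H := normalizer (((P : Subgroup N).map N.subtype : Subgroup X) : Set X)) (K := N)
    rw [h1, relIndex_top_right] at h2
    have h3 := N.card_mul_index
    have h4 : Nat.card (N ⊓ normalizer (((P : Subgroup N).map N.subtype : Subgroup X) : Set X) : Subgroup X) *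
        N.relIndex (normalizer (((P : Subgroup N).map N.subtype : Subgroup X) : Set X)) =
        Nat.card (normalizer (((P : Subgroup N).map N.subtype : Subgroup X) : Set X)) := by
      have h5 := (N.subgroupOf (normalizer (((P : Subgroup N).map N.subtype : Subgroup X) : Set X))).card_mul_index
      rw [← h5, relIndex]
      congr 1
      rw [← card_map_of_injective (subtype_injective _), subgroupOf_map_subtype]
    rw [← h3, ← h4, ← h2]
    ring
  · have h1 := card_sylow_modEq_one r N
    rw [P.card_eq_index_normalizer] at h1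
    rw [card_inf_eq]
    have h2 := (normalizer ((P : Subgroup N) : Set N)).card_mul_index
    rw [← h2, Nat.mul_div_cancel_left _ Nat.card_pos]
    exact h1

/-- **the Frattini argument in a subgroup `H`** -/
theorem main {G : Type*} [Group G] [Finite G] {H N : Subgroup G} (hNH : N ≤ H) (hn : ∀ h ∈ H, ∀ n ∈ N, h * n * h⁻¹ ∈ N)
    (r : ℕ) [hr : Fact r.Prime] :
    ∃ R : Subgroup G, R ≤ N ∧ Nat.card R = r ^ (Nat.card N).factorization r ∧
      Nat.card H * Nat.card (N ⊓ normalizer (R : Set G) : Subgroup G) =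
        Nat.card N * Nat.card (H ⊓ normalizer (R : Set G) : Subgroup G) ∧
      Nat.card N / Nat.card (N ⊓ normalizer (R : Set G) : Subgroup G) ≡ 1 [MOD r] := by
  have hnorm : (N.subgroupOf H).Normal := ⟨fun n hn' h => hn h h.2 n hn'⟩
  have hc : Nat.card (N.subgroupOf H) = Nat.card N := by
    rw [← card_map_of_injective (subtype_injective _), subgroupOf_map_subtype, inf_eq_left.2 hNH]
  obtain ⟨R, hR, h1, h2, h3⟩ := top (N.subgroupOf H) r
  rw [hc] at h1 h2 h3
  have e1 : Nat.card (N ⊓ normalizer ((R.map H.subtype : Subgroup G) : Set G) : Subgroup G) =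
      Nat.card (N.subgroupOf H ⊓ normalizer (R : Set H) : Subgroup H) := by
    rw [← card_map_of_injective (f := H.subtype) (subtype_injective H)]
    congr 2
    ext y
    constructor
    · rintro ⟨hy, hy'⟩
      exact ⟨⟨y, hNH hy⟩, ⟨hy, mem_normalizer_map.1 hy'⟩, rfl⟩
    · rintro ⟨x, ⟨hx, hx'⟩, rfl⟩
      exact ⟨hx, mem_normalizer_map.2 hx'⟩
  have e2 : Nat.card (H ⊓ normalizer ((R.map H.subtype : Subgroup G) : Set G) : Subgroup G) =
      Nat.card (normalizer (R : Set H)) := card_inf_eq
  refine ⟨R.map H.subtype, ?_, ?_, ?_, ?_⟩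
  · rintro _ ⟨x, hx, rfl⟩
    exact hR hx
  · rw [card_map_of_injective (subtype_injective _), h1]
  · rw [e1, e2, h2]
  · rw [e1]; exact h3

end Cfsg.Agent.H895.Pron.Frat
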