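import Cfsg.Agent.KFacts.SuzLarge
import Cfsg.Agent.Schreier.Suz

/-!
# The Sylow 2-subgroup of `Suz` inside the centraliser of `z0`: the action on `Q0` by codes (helper895)

`T = ⟨s1, s2, s3, s4⟩` (`Schreier.Suz`), `z0 = x12`, `Q0 ≤ T ≤ C(z0)`; `w0` of order 3 normalises `T`.
-/

set_option autoImplicit false
set_option maxRecDepth 100000

namespace Cfsg.Agent.H895.Pron.SuzS

open Cfsg.Spor Cfsg.Agent.Lib.PermNet Cfsg.Agent.Lib.PermNetOrbit Cfsg.Agent.SporadicRecognition.SuzPhi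
  Cfsg.Agent.SporadicRecognition.SuzBound Cfsg.Agent.SporadicRecognition.SuzOrder
  Cfsg.Agent.SporadicRecognition.SuzNet Cfsg.Agent.Schreier.SuzNetT
  Cfsg.Agent.SuzThree.Basic Cfsg.Agent.SuzThree.CentA Cfsg.Agent.SuzThree.QZero
  Cfsg.Agent.KFacts.Codes Cfsg.Agent.KFacts.Orbits Cfsg.Agent.KFacts.SuzLarge

open Cfsg.Agent.KFacts.SuzR hiding s1 s2

open Cfsg.Agent.Schreier.SuzT (s1 s2 s3 s4 x4 x5 x6 x7 x8 x9 x10 x11 x12)
open Cfsg.Agent.Schreier.Suz (T)

/-- the two notions of representation -/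
theorem conv {g : Suz} {n : Net} (h : Cfsg.Agent.Schreier.SuzT.Rep g n) : Rep g [n] :=
  ⟨WOk.cons h.2 (WOk.nil _), by rw [h.1, wperm_cons, wperm_nil, mul_one]⟩

/-- the element `g` acts on `Q0` by the code images `l` -/
structure Act (g : Suz) (l : List ℕ) : Prop where
  comm : g * z0 = z0 * g
  gen : ∀ i < 6, g * xx i * g⁻¹ = C (img l i)

theorem Act.conj {g : Suz} {l : List ℕ} (h : Act g l) (c : ℕ) : g * C c * g⁻¹ = C (act BB 6 (img l) c) :=
  conj_cod rels tri h.comm h.gen c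

theorem Act.mul {g g' : Suz} {l l' : List ℕ} (h : Act g l) (h' : Act g' l') (m : List ℕ)
    (hm : ∀ i < 6, act BB 6 (img l) (img l' i) = img m i) : Act (g * g') m := by
  refine ⟨?_, fun i hi => ?_⟩
  · rw [mul_assoc, h'.comm, ← mul_assoc, h.comm, mul_assoc]
  · have e : g * g' * xx i * (g * g')⁻¹ = g * (g' * xx i * g'⁻¹) * g⁻¹ := by group
    rw [e, h'.gen i hi, h.conj, hm i hi]

theorem comm_of_el {w : List Suz.Gen} (h : checkEq 11 (wd (w ++ [.a])) (wd (.a :: w)) = true) :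
    el w * z0 = z0 * el w := mem_C1.1 (mem_C1_of h)

/-! ### images -/

def im_s1 : Qx → List (Option Qx)
  | .k1 => [some .k1]
  | .k2 => [some .k2]
  | .k3 => [some .k3]
  | .k4 => [none, some .k4]
  | .k5 => [some .k5]
  | .k6 => [some .k6]

def im_s2 : Qx → List (Option Qx)
  | .k1 => [none, some .k1, some .k4]
  | .k2 => [some .k2]
  | .k3 => [none, some .k3, some .k4]
  | .k4 => [some .k4]
  | .k5 => [none, some .k2, some .k5]
  | .k6 => [none, some .k4, some .k6]

def im_s4 : Qx → List (Option Qx)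
  | .k1 => [some .k1]
  | .k2 => [some .k1, some .k2, some .k3, some .k4, some .k6]
  | .k3 => [none, some .k6]
  | .k4 => [some .k4]
  | .k5 => [some .k1, some .k3, some .k4, some .k5, some .k6]
  | .k6 => [none, some .k3]

def im_w : Qx → List (Option Qx)
  | .k1 => [some .k1]
  | .k2 => [some .k2]
  | .k3 => [none, some .k6]
  | .k4 => [some .k4]
  | .k5 => [some .k5]
  | .k6 => [some .k1, some .k2, some .k3, some .k6]

def l_s1 : List ℕ := [1, 2, 4, 72, 16, 32]
def l_s2 : List ℕ := [73, 2, 76, 8, 82, 104]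
def l_s3 : List ℕ := [1, 4, 2, 8, 16, 39]
def l_s4 : List ℕ := [1, 47, 96, 8, 61, 68]
def l_h1 : List ℕ := [1, 74, 76, 8, 81, 104]
def l_w : List ℕ := [1, 2, 96, 8, 16, 39]
def l_d : List ℕ := [2, 1, 4, 8, 16, 39]
def l_h2 : List ℕ := [1, 82, 84, 73, 16, 112]

theorem act_s1 : Act s1 l_s1 :=
  ⟨comm_of_el (by decide +kernel), conj_gen (im := im_s1) (by decide +kernel) (by decide +kernel)⟩

theorem act_s2 : Act s2 l_s2 :=
  ⟨comm_of_el (by decide +kernel), conj_gen (im := im_s2) (by decide +kernel) (by decide +kernel)⟩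

theorem act_s3 : Act s3 l_s3 := ⟨comm_of_el (by decide +kernel), conj_gg 1⟩

theorem act_s4 : Act s4 l_s4 :=
  ⟨comm_of_el (by decide +kernel), conj_gen (im := im_s4) (by decide +kernel) (by decide +kernel)⟩

theorem act_h1 : Act (el h1) l_h1 := ⟨comm_of_el (by decide +kernel), conj_gg 2⟩

theorem act_h2 : Act (el h2) l_h2 := ⟨comm_of_el (by decide +kernel), conj_gg 3⟩

theorem act_d : Act (el [.d]) l_d := ⟨comm_of_el (by decide +kernel), conj_gg 0⟩

/-- the element of order 3 -/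
noncomputable def w : Suz := el Cfsg.Agent.SuzThree.Elts.w0

theorem act_w : Act w l_w :=
  ⟨comm_of_el (by decide +kernel), conj_gen (im := im_w) (by decide +kernel) (by decide +kernel)⟩

theorem w3 : w ^ 3 = 1 := pow_one_of 3 (by decide +kernel)

/-! ### `Q0 ≤ T ≤ C1` -/

theorem T_comm {t : Suz} (ht : t ∈ T) : t * z0 = z0 * t := by
  have h : T ≤ C1 := by
    rw [Cfsg.Agent.Schreier.Suz.T_def, Subgroup.closure_le]
    exact Cfsg.Agent.Schreier.Suz.forall_S (mem_C1.2 act_s1.comm) (mem_C1.2 act_s2.comm) (mem_C1.2 act_s3.comm)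
      (mem_C1.2 act_s4.comm)
  exact mem_C1.1 (h ht)

theorem e_s1 : s1 = C 16 := by
  have h : s1 = qp [some .k5] := eq_of_reps (conv Cfsg.Agent.Schreier.SuzT.r_s1) (rep_qp _) (by decide +kernel)
  rw [h, qp_eq]; rfl

theorem e_x4 : x4 = C 66 := by
  have h : x4 = qp [none, some .k2] := eq_of_reps (conv Cfsg.Agent.Schreier.SuzT.r_x4) (rep_qp _) (by decide +kernel)
  rw [h, qp_eq]; congr 1

theorem e_x7 : x7 = C 109 := by
  have h : x7 = qp [none, some .k1, some .k3, some .k4, some .k6] :=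
    eq_of_reps (conv Cfsg.Agent.Schreier.SuzT.r_x7) (rep_qp _) (by decide +kernel)
  rw [h, qp_eq]; congr 1

theorem e_x9 : x9 = C 6 := by
  have h : x9 = qp [some .k2, some .k3] :=
    eq_of_reps (conv Cfsg.Agent.Schreier.SuzT.r_x9) (rep_qp _) (by decide +kernel)
  rw [h, qp_eq]; congr 1

theorem e_x10 : x10 = C 65 := by
  have h : x10 = qp [none, some .k1] :=
    eq_of_reps (conv Cfsg.Agent.Schreier.SuzT.r_x10) (rep_qp _) (by decide +kernel)
  rw [h, qp_eq]; congr 1

theorem e_x11 : x11 = C 72 := by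
  have h : x11 = qp [none, some .k4] :=
    eq_of_reps (conv Cfsg.Agent.Schreier.SuzT.r_x11) (rep_qp _) (by decide +kernel)
  rw [h, qp_eq]; congr 1

theorem e_x12 : x12 = C 64 := (cod_z (n := 6)).symm

theorem e_x8 : x8 = el h1 :=
  eq_of_reps (conv Cfsg.Agent.Schreier.SuzT.r_x8) (Rep.el _) (by decide +kernel)

theorem mem_mulc {H : Subgroup Suz} {a b : ℕ} (ha : C a ∈ H) (hb : C b ∈ H) {c : ℕ} (h : mulc BB 6 a b = c) : C c ∈ H := by
  rw [← h, C, ← cod_mul rels tri]; exact H.mul_mem ha hb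

open Cfsg.Agent.Schreier.Suz in
theorem Q0_le_T : Q0 ≤ T := by
  have h64 : C 64 ∈ T := by rw [← e_x12]; exact x12_mem
  have h16 : C 16 ∈ T := by rw [← e_s1]; exact s1_mem
  have h66 : C 66 ∈ T := by rw [← e_x4]; exact x4_mem
  have h109 : C 109 ∈ T := by rw [← e_x7]; exact x7_mem
  have h6 : C 6 ∈ T := by rw [← e_x9]; exact x9_mem
  have h65 : C 65 ∈ T := by rw [← e_x10]; exact x10_mem
  have h72 : C 72 ∈ T := by rw [← e_x11]; exact x11_mem
  have h1 : C 1 ∈ T := mem_mulc h64 h65 (by decide +kernel)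
  have h2 : C 2 ∈ T := mem_mulc h64 h66 (by decide +kernel)
  have h8 : C 8 ∈ T := mem_mulc h64 h72 (by decide +kernel)
  have h4 : C 4 ∈ T ∨ C 68 ∈ T := by
    have h := T.mul_mem h2 h6
    rw [C, C, cod_mul rels tri] at h
    have e : mulc BB 6 2 6 = 4 ∨ mulc BB 6 2 6 = 68 := by decide +kernel
    rcases e with e | e
    · rw [e] at h; exact Or.inl h
    · rw [e] at h; exact Or.inr h
  have h4' : C 4 ∈ T := h4.elim id fun h => mem_mulc h64 h (by decide +kernel)
  have hx : ∀ a b : ℕ, C a ∈ T → C b ∈ T → ∀ c, (mulc BB 6 a b = c ∨ mulc BB 6 64 (mulc BB 6 a b) = c) → C c ∈ T := by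
    intro a b ha hb c hc
    have h := T.mul_mem ha hb
    rw [C, C, cod_mul rels tri] at h
    rcases hc with hc | hc
    · rw [hc] at h; exact h
    · exact mem_mulc h64 h hc
  have h108 := hx 1 109 h1 h109 108 (by decide +kernel)
  have h100 := hx 8 108 h8 h108 100 (by decide +kernel)
  have h96 := hx 4 100 h4' h100 96 (by decide +kernel)
  have h32 := hx 64 96 h64 h96 32 (by decide +kernel)
  rw [Q0_eq, RG, Subgroup.closure_le]
  rintro y (rfl | ⟨i, hi, rfl⟩)
  · exact x12_mem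
  · have hall : ∀ i < 6, C (2 ^ i) ∈ T := by
      intro i hi
      interval_cases i
      · exact h1
      · exact h2
      · exact h4'
      · exact h8
      · exact h16
      · exact h32
    have h := hall i hi
    rwa [C, cod_pow hi] at h

end Cfsg.Agent.H895.Pron.SuzS
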