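import Cfsg.Agent.H895.Pron.Abs
import Cfsg.Agent.H895.Pron.SuzS

/-!
# The subgroups `A1 < A2 < V` of the Sylow 2-subgroup of `Suz` and the stabiliser of the flag (helper895)

* `N_T` : the normaliser of `T` centralises `z0` and normalises `A1`, `A2`;
* `flag` : the elements of `C(z0)` normalising `A1` and `A2` lie in `T ⟨w⟩`.
-/

set_option autoImplicit false
set_option maxRecDepth 100000

namespace Cfsg.Agent.H895.Pron.SuzB

open Cfsg.Spor Cfsg.Agent.Lib.PermNet Cfsg.Agent.Lib.PermNetOrbit Cfsg.Agent.SporadicRecognition.SuzPhi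
  Cfsg.Agent.SporadicRecognition.SuzBound Cfsg.Agent.SporadicRecognition.SuzOrder
  Cfsg.Agent.SporadicRecognition.SuzNet Cfsg.Agent.Schreier.SuzNetT
  Cfsg.Agent.SuzThree.Basic Cfsg.Agent.SuzThree.CentA Cfsg.Agent.SuzThree.QZero
  Cfsg.Agent.KFacts.Codes Cfsg.Agent.KFacts.Orbits Cfsg.Agent.KFacts.SuzLarge
  Cfsg.Agent.H895.Pron.SuzS Subgroup

open Cfsg.Agent.KFacts.SuzR hiding s1 s2

open Cfsg.Agent.Schreier.SuzT (s1 s2 s3 s4 x4 x5 x6 x7 x8 x9 x10 x11 x12 e_x11_s1 e_x10_s2)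
open Cfsg.Agent.Schreier.Suz (T U10 U11 U12 W)

theorem C_mul' (a b : ℕ) : C a * C b = C (mulc BB 6 a b) := by rw [C, C, cod_mul rels tri]

theorem C_zero' : C 0 = 1 := cod_zero

theorem C_64 : C 64 = z0 := cod_z (n := 6)

theorem C_inj' {c d : ℕ} (hc : c < 128) (hd : d < 128) (h : C c = C d) : c = d :=
  cod_injOn rels tri nondeg z_ne hc hd h

/-- the subgroup with a list of codes -/
noncomputable def grp (l : List ℕ) (h : ∀ a ∈ l, ∀ b ∈ l, mulc BB 6 a b ∈ l) (h0 : 0 ∈ l)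
    (h2 : ∀ a ∈ l, mulc BB 6 a a = 0) : Subgroup Suz where
  carrier := {g | ∃ c ∈ l, C c = g}
  one_mem' := ⟨0, h0, C_zero'⟩
  mul_mem' := by
    rintro _ _ ⟨a, ha, rfl⟩ ⟨b, hb, rfl⟩
    exact ⟨_, h a ha b hb, (C_mul' a b).symm⟩
  inv_mem' := by
    rintro _ ⟨a, ha, rfl⟩
    refine ⟨a, ha, (inv_eq_of_mul_eq_one_right ?_).symm⟩
    rw [C_mul', h2 a ha, C_zero']

def lA1 : List ℕ := [0, 64, 8, 72]
def lA2 : List ℕ := [0, 64, 8, 72, 1, 65, 9, 73]

noncomputable def A1 : Subgroup Suz := grp lA1 (by decide +kernel) (by decide +kernel) (by decide +kernel)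
noncomputable def A2 : Subgroup Suz := grp lA2 (by decide +kernel) (by decide +kernel) (by decide +kernel)

theorem mem_A1 {g : Suz} : g ∈ A1 ↔ ∃ c ∈ lA1, C c = g := Iff.rfl
theorem mem_A2 {g : Suz} : g ∈ A2 ↔ ∃ c ∈ lA2, C c = g := Iff.rfl

theorem A12 : A1 ≤ A2 := by
  rintro _ ⟨c, hc, rfl⟩
  have : ∀ c ∈ lA1, c ∈ lA2 := by decide
  exact ⟨c, this c hc, rfl⟩

theorem z_A1 : z0 ∈ A1 := ⟨64, by decide, C_64⟩

theorem A2_le_Q0 : A2 ≤ Q0 := by
  rintro _ ⟨c, -, rfl⟩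
  exact C_mem c

theorem A2_sq {a : Suz} (ha : a ∈ A2) : a * a = 1 := by
  obtain ⟨c, hc, rfl⟩ := ha
  have : ∀ c ∈ lA2, mulc BB 6 c c = 0 := by decide +kernel
  rw [C_mul', this c hc, C_zero']

/-! ### the lower central series of `T` -/

theorem U10_eq : U10 = A2 := by
  apply le_antisymm
  · rw [U10, U11, U12]
    refine sup_le ?_ (sup_le ?_ (sup_le ?_ bot_le))
    · rw [closure_le]; rintro _ rfl; exact ⟨65, by decide, e_x10.symm⟩
    · rw [closure_le]; rintro _ rfl; exact ⟨72, by decide, e_x11.symm⟩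
    · rw [closure_le]; rintro _ rfl; exact ⟨64, by decide, e_x12.symm⟩
  · have h65 : C 65 ∈ U10 := by rw [← e_x10]; exact Cfsg.Agent.Schreier.Suz.mem10_10
    have h72 : C 72 ∈ U10 := by rw [← e_x11]; exact Cfsg.Agent.Schreier.Suz.mem10_11
    have h64 : C 64 ∈ U10 := by rw [← e_x12]; exact Cfsg.Agent.Schreier.Suz.mem10_12
    have h1 : C 1 ∈ U10 := mem_mulc h64 h65 (by decide +kernel)
    have h8 : C 8 ∈ U10 := mem_mulc h64 h72 (by decide +kernel)
    have h9 : C 9 ∈ U10 := mem_mulc h1 h8 (by decide +kernel)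
    have h73 : C 73 ∈ U10 := mem_mulc h64 h9 (by decide +kernel)
    have h0 : C 0 ∈ U10 := by rw [C_zero']; exact one_mem _
    rintro _ ⟨c, hc, rfl⟩
    simp only [lA2, List.mem_cons, List.not_mem_nil, or_false] at hc
    rcases hc with rfl | rfl | rfl | rfl | rfl | rfl | rfl | rfl <;> assumption

theorem U11_eq : U11 = A1 := by
  apply le_antisymm
  · rw [U11, U12]
    refine sup_le ?_ (sup_le ?_ bot_le)
    · rw [closure_le]; rintro _ rfl; exact ⟨72, by decide, e_x11.symm⟩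
    · rw [closure_le]; rintro _ rfl; exact ⟨64, by decide, e_x12.symm⟩
  · have h72 : C 72 ∈ U11 := by rw [← e_x11]; exact Cfsg.Agent.Schreier.Suz.mem11_11
    have h64 : C 64 ∈ U11 := by rw [← e_x12]; exact Cfsg.Agent.Schreier.Suz.mem11_12
    have h8 : C 8 ∈ U11 := mem_mulc h64 h72 (by decide +kernel)
    have h0 : C 0 ∈ U11 := by rw [C_zero']; exact one_mem _
    rintro _ ⟨c, hc, rfl⟩
    simp only [lA1, List.mem_cons, List.not_mem_nil, or_false] at hc
    rcases hc with rfl | rfl | rfl | rfl <;> assumption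

theorem comm_mem_commutator {A B : Subgroup Suz} {a b : Suz} (ha : a ∈ A) (hb : b ∈ B) :
    a * b * a⁻¹ * b⁻¹ ∈ ⁅A, B⁆ := Subgroup.commutator_mem_commutator ha hb

theorem x11_W : x11 ∈ ⁅W, T⁆ :=
  comm_mem_commutator Cfsg.Agent.Schreier.Suz.x10_mem_W Cfsg.Agent.Schreier.Suz.s2_mem

theorem T_le_W : T ≤ normalizer (W : Set Suz) := Cfsg.Agent.Schreier.Suz.T_le_normalizer

theorem WT_le : ⁅W, T⁆ ≤ W := by
  rw [commutator_le]
  intro a ha b hb
  have h1 := (mem_normalizer_iff.1 (T_le_W hb) _).1 (W.inv_mem ha)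
  have h2 := W.mul_mem ha h1
  have e : a * (b * a⁻¹ * b⁻¹) = a * b * a⁻¹ * b⁻¹ := by group
  rw [e] at h2
  exact h2

theorem W_eq : W = A2 := by
  apply le_antisymm
  · rw [← U10_eq]; exact Cfsg.Agent.Schreier.Suz.W_le
  · rw [← U10_eq, U10, U11, U12]
    have h11 : x11 ∈ W := WT_le x11_W
    have h12 : x12 ∈ W := by
      apply WT_le
      have := comm_mem_commutator h11 Cfsg.Agent.Schreier.Suz.s1_mem
      rwa [Cfsg.Agent.Schreier.Suz.comm_eq e_x11_s1] at this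
    refine sup_le ?_ (sup_le ?_ (sup_le ?_ bot_le))
    · rw [closure_le]; rintro _ rfl; exact Cfsg.Agent.Schreier.Suz.x10_mem_W
    · rw [closure_le]; rintro _ rfl; exact h11
    · rw [closure_le]; rintro _ rfl; exact h12

theorem WT_eq : ⁅W, T⁆ = A1 := by
  apply le_antisymm
  · rw [← U11_eq, W_eq, ← U10_eq]
    exact Cfsg.Agent.Schreier.Suz.st10.2 |> fun h => commutator_le.2 fun a ha b hb => by
      rw [commutatorElement_def]; exact h a ha b hb
  · rw [← U11_eq, U11, U12]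
    have h12 : x12 ∈ ⁅W, T⁆ := by
      have := comm_mem_commutator (WT_le x11_W) Cfsg.Agent.Schreier.Suz.s1_mem
      rwa [Cfsg.Agent.Schreier.Suz.comm_eq e_x11_s1] at this
    refine sup_le ?_ (sup_le ?_ bot_le)
    · rw [closure_le]; rintro _ rfl; exact x11_W
    · rw [closure_le]; rintro _ rfl; exact h12

theorem map_conj_eq {A : Subgroup Suz} {g : Suz} (hg : g ∈ normalizer (A : Set Suz)) :
    A.map (MulAut.conj g).toMonoidHom = A := by
  ext x
  rw [mem_map]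
  constructor
  · rintro ⟨a, ha, rfl⟩
    exact (mem_normalizer_iff.1 hg a).1 ha
  · intro hx
    refine ⟨g⁻¹ * x * g, ?_, ?_⟩
    · rw [mem_normalizer_iff.1 hg]
      have e : g * (g⁻¹ * x * g) * g⁻¹ = x := by group
      rw [e]; exact hx
    · show g * (g⁻¹ * x * g) * g⁻¹ = x
      group

theorem mem_normalizer_of_map {A : Subgroup Suz} {g : Suz} (hg : A.map (MulAut.conj g).toMonoidHom = A) :
    g ∈ normalizer (A : Set Suz) := by
  rw [mem_normalizer_iff]
  intro x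
  constructor
  · intro hx
    rw [← hg]
    exact ⟨x, hx, rfl⟩
  · intro hx
    rw [← hg] at hx
    obtain ⟨y, hy, hyx⟩ := hx
    have : y = x := (MulAut.conj g).injective hyx
    rwa [← this]

theorem norm_comm {A B : Subgroup Suz} {g : Suz} (hA : g ∈ normalizer (A : Set Suz)) (hB : g ∈ normalizer (B : Set Suz)) :
    g ∈ normalizer ((⁅A, B⁆ : Subgroup Suz) : Set Suz) := by
  apply mem_normalizer_of_map
  rw [map_commutator, map_conj_eq hA, map_conj_eq hB]

theorem N_T {g : Suz} (hg : g ∈ normalizer (T : Set Suz)) :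
    g * z0 = z0 * g ∧ (∀ a ∈ A1, g * a * g⁻¹ ∈ A1) ∧ (∀ a ∈ A2, g * a * g⁻¹ ∈ A2) := by
  have hW : g ∈ normalizer (W : Set Suz) := norm_comm (norm_comm (norm_comm hg hg) hg) hg
  have hWT : g ∈ normalizer ((⁅W, T⁆ : Subgroup Suz) : Set Suz) := norm_comm hW hg
  have hWTT : g ∈ normalizer ((⁅(⁅W, T⁆ : Subgroup Suz), T⁆ : Subgroup Suz) : Set Suz) := norm_comm hWT hg
  refine ⟨?_, fun a ha => ?_, fun a ha => ?_⟩
  · have hz : z0 ∈ (⁅(⁅W, T⁆ : Subgroup Suz), T⁆ : Subgroup Suz) := by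
      have := comm_mem_commutator x11_W Cfsg.Agent.Schreier.Suz.s1_mem
      rwa [Cfsg.Agent.Schreier.Suz.comm_eq e_x11_s1] at this
    have hle : (⁅(⁅W, T⁆ : Subgroup Suz), T⁆ : Subgroup Suz) ≤ U12 := by
      rw [WT_eq, ← U11_eq]
      exact commutator_le.2 fun a ha b hb => by
        rw [commutatorElement_def]; exact Cfsg.Agent.Schreier.Suz.st11.2 a ha b hb
    have h1 := hle ((mem_normalizer_iff.1 hWTT z0).1 hz)
    have h2 : ∀ x ∈ U12, x = 1 ∨ x = z0 := by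
      have hle2 : U12 ≤ zpowers z0 := by
        rw [U12]
        refine sup_le ?_ bot_le
        rw [closure_le]; rintro _ rfl; exact mem_zpowers z0
      intro x hx
      obtain ⟨k, rfl⟩ := mem_zpowers_iff.1 (hle2 hx)
      have h3 : z0 ^ (2 : ℤ) = 1 := by rw [zpow_two]; exact z_sq
      rcases Int.even_or_odd k with ⟨m, rfl⟩ | ⟨m, rfl⟩
      · left; rw [← two_mul, zpow_mul, h3, one_zpow]
      · right; rw [zpow_add, zpow_mul, h3, one_zpow, one_mul, zpow_one]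
    rcases h2 _ h1 with h3 | h3
    · exfalso
      apply z_ne
      have : z0 = g⁻¹ * (g * z0 * g⁻¹) * g := by group
      rw [this, h3]; group
    · exact mul_inv_eq_iff_eq_mul.1 h3
  · rw [WT_eq] at hWT
    exact (mem_normalizer_iff.1 hWT a).1 ha
  · rw [W_eq] at hW
    exact (mem_normalizer_iff.1 hW a).1 ha

/-! ### the normaliser of the flag -/

/-- an orbit bound for conjugation -/
theorem card_le_orbit [Finite Suz] (H : Subgroup Suz) (x : Suz) (S : Finset Suz) (hS : ∀ h ∈ H, h * x * h⁻¹ ∈ S) :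
    Nat.card H ≤ S.card * Nat.card (H ⊓ centralizer ({x} : Set Suz) : Subgroup Suz) := by
  classical
  let rep : Suz → Suz := fun y => if h : ∃ r ∈ H, r * x * r⁻¹ = y then h.choose else 1
  have hrep : ∀ h ∈ H, rep (h * x * h⁻¹) ∈ H ∧ rep (h * x * h⁻¹) * x * (rep (h * x * h⁻¹))⁻¹ = h * x * h⁻¹ := by
    intro h hh
    have hex : ∃ r ∈ H, r * x * r⁻¹ = h * x * h⁻¹ := ⟨h, hh, rfl⟩
    have : rep (h * x * h⁻¹) = hex.choose := dif_pos hex
    rw [this]
    exact hex.choose_spec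
  have hmem : ∀ h : H, (rep ((h : Suz) * x * (h : Suz)⁻¹))⁻¹ * h ∈ (H ⊓ centralizer ({x} : Set Suz) : Subgroup Suz) := by
    rintro ⟨h, hh⟩
    obtain ⟨h1, h2⟩ := hrep h hh
    refine ⟨H.mul_mem (H.inv_mem h1) hh, mem_centralizer_singleton_iff.2 ?_⟩
    simp only at h2 ⊢
    have h3 : (rep (h * x * h⁻¹))⁻¹ * h * x * h⁻¹ * rep (h * x * h⁻¹) = x := by
      have e : (rep (h * x * h⁻¹))⁻¹ * h * x * h⁻¹ * rep (h * x * h⁻¹) =
        (rep (h * x * h⁻¹))⁻¹ * (h * x * h⁻¹) * rep (h * x * h⁻¹) := by group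
      rw [e]
      nth_rw 2 [← h2]
      group
    calc (rep (h * x * h⁻¹))⁻¹ * h * x = ((rep (h * x * h⁻¹))⁻¹ * h * x * h⁻¹ * rep (h * x * h⁻¹)) *
          ((rep (h * x * h⁻¹))⁻¹ * h) := by group
      _ = x * ((rep (h * x * h⁻¹))⁻¹ * h) := by rw [h3]
  have hinj : Function.Injective (fun h : H => ((⟨(h : Suz) * x * (h : Suz)⁻¹, hS h h.2⟩ : S),
      (⟨_, hmem h⟩ : (H ⊓ centralizer ({x} : Set Suz) : Subgroup Suz)))) := by
    intro a b hab
    simp only [Prod.mk.injEq, Subtype.mk.injEq] at hab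
    obtain ⟨h1, h2⟩ := hab
    rw [h1] at h2
    exact Subtype.ext (mul_left_cancel h2)
  have := Nat.card_le_card_of_injective _ hinj
  rwa [Nat.card_prod, Nat.card_eq_fintype_card (α := {y // y ∈ S}), Fintype.card_coe] at this

/-- edges -/
def e0 : List (ℕ × ℕ) :=
  [(3, 8), (0, 73), (4, 73), (1, 74), (2, 74), (3, 74), (4, 74), (3, 9), (2, 76), (3, 76), (4, 76), (0, 2), (3, 2),
  (4, 2), (0, 91), (2, 91), (1, 10), (3, 4), (4, 4), (0, 93), (2, 93), (4, 93), (0, 40), (3, 40), (4, 1), (0, 82),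
  (1, 66), (1, 27), (0, 18), (4, 12), (4, 84), (0, 96), (1, 94), (2, 94), (4, 94), (4, 20), (0, 121), (1, 121),
  (4, 121), (0, 57), (2, 81), (4, 68), (2, 17), (0, 104), (0, 48), (2, 30), (4, 30), (4, 31), (2, 122), (0, 112),
  (1, 61), (1, 125), (0, 32)]

def M1 : List (List ℕ × List ℕ) :=
  [([0], [2, 1, 4, 8, 16, 39]), ([1], [1, 4, 2, 8, 16, 39]), ([2], [1, 74, 76, 8, 81, 104]),
   ([4], [65, 66, 96, 8, 16, 39])]

def e1 : List (ℕ × ℕ) :=
  [(0, 1), (3, 1), (1, 2), (2, 2), (3, 2), (2, 4), (3, 4), (0, 74), (3, 74), (1, 66), (3, 76), (0, 96), (3, 73),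
  (1, 10), (3, 68), (0, 40), (3, 12), (0, 32), (0, 104)]

theorem k0 : ChOk BB 6 AA [] 8 54 L0 e0 := by decide +kernel
theorem k1 : ChOk BB 6 AA [8] 1 20 M1 e1 := by decide +kernel

theorem card_fix : Nat.card (Hs C1 (cod 6 z0 xx) [1, 8]) ≤ 3072 := by
  have hfin := Cfsg.Agent.SporadicRecognition.SuzOrder.finiteSuz
  have h0 := chain_le rels tri nondeg z_ne gg_mem C1_comm conj_AA k0
  have h1 := chain_le rels tri nondeg z_ne gg_mem C1_comm conj_AA k1
  have h : Nat.card (Hs C1 (cod 6 z0 xx) []) = 3317760 := Cfsg.Agent.KFacts.SuzCent.card_C1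
  rw [h] at h0
  omega

/-- the stabiliser of the flag -/
noncomputable def B : Subgroup Suz :=
  C1 ⊓ (normalizer (A1 : Set Suz) ⊓ normalizer (A2 : Set Suz))

theorem card_B_le : Nat.card B ≤ 24576 := by
  classical
  have hfin := Cfsg.Agent.SporadicRecognition.SuzOrder.finiteSuz
  have h1 := card_le_orbit B (C 8) {C 8, C 72} (by
    rintro g ⟨hg, hg1, -⟩
    obtain ⟨c, hc, hcc⟩ := (mem_normalizer_iff.1 hg1 (C 8)).1 ⟨8, by decide, rfl⟩
    rw [← hcc, Finset.mem_insert, Finset.mem_singleton]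
    simp only [lA1, List.mem_cons, List.not_mem_nil, or_false] at hc
    have hz := mem_C1.1 hg
    have h8 : C 8 = g⁻¹ * (g * C 8 * g⁻¹) * g := by group
    rcases hc with rfl | rfl | rfl | rfl
    · exfalso
      rw [← hcc, C_zero'] at h8
      have h9 : C 8 = C 0 := by rw [h8, C_zero']; group
      exact absurd (C_inj' (by norm_num) (by norm_num) h9) (by norm_num)
    · exfalso
      rw [← hcc, C_64] at h8
      have h9 : C 8 = C 64 := by rw [h8, C_64, mul_assoc, ← hz]; group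
      exact absurd (C_inj' (by norm_num) (by norm_num) h9) (by norm_num)
    · exact Or.inl rfl
    · exact Or.inr rfl)
  have h2 := card_le_orbit (B ⊓ centralizer ({C 8} : Set Suz)) (C 1) {C 1, C 65, C 9, C 73} (by
    rintro g ⟨⟨hg, hg1, hg2⟩, hg8⟩
    obtain ⟨c, hc, hcc⟩ := (mem_normalizer_iff.1 hg2 (C 1)).1 ⟨1, by decide, rfl⟩
    rw [← hcc]
    simp only [Finset.mem_insert, Finset.mem_singleton]
    simp only [lA2, List.mem_cons, List.not_mem_nil, or_false] at hc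
    have hz := mem_C1.1 hg
    have h8 := mem_centralizer_singleton_iff.1 hg8
    have h1 : C 1 = g⁻¹ * (g * C 1 * g⁻¹) * g := by group
    have hz8 : g⁻¹ * C 72 * g = C 72 := by
      have e : C 72 = C 64 * C 8 := by rw [C_mul']; congr 1
      rw [e, C_64]
      calc g⁻¹ * (z0 * C 8) * g = g⁻¹ * z0 * (C 8 * g) := by group
        _ = g⁻¹ * (z0 * g) * C 8 := by rw [← h8]; group
        _ = z0 * C 8 := by rw [← hz]; group
    rcases hc with rfl | rfl | rfl | rfl | rfl | rfl | rfl | rfl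
    · exfalso
      rw [← hcc, C_zero'] at h1
      have h9 : C 1 = C 0 := by rw [h1, C_zero']; group
      exact absurd (C_inj' (by norm_num) (by norm_num) h9) (by norm_num)
    · exfalso
      rw [← hcc, C_64] at h1
      have h9 : C 1 = C 64 := by rw [h1, C_64, mul_assoc, ← hz]; group
      exact absurd (C_inj' (by norm_num) (by norm_num) h9) (by norm_num)
    · exfalso
      rw [← hcc] at h1
      have h9 : C 1 = C 8 := by rw [h1, mul_assoc, ← h8]; group
      exact absurd (C_inj' (by norm_num) (by norm_num) h9) (by norm_num)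
    · exfalso
      rw [← hcc, hz8] at h1
      exact absurd (C_inj' (by norm_num) (by norm_num) h1) (by norm_num)
    · exact Or.inl rfl
    · exact Or.inr (Or.inl rfl)
    · exact Or.inr (Or.inr (Or.inl rfl))
    · exact Or.inr (Or.inr (Or.inr rfl)))
  have h3 : Nat.card (B ⊓ centralizer ({C 8} : Set Suz) ⊓ centralizer ({C 1} : Set Suz) : Subgroup Suz) ≤ 3072 := by
    refine le_trans (Subgroup.card_le_of_le ?_) card_fix
    intro g hg
    refine ⟨⟨hg.1.1.1, hg.1.2⟩, hg.2⟩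
  have h4 : ({C 8, C 72} : Finset Suz).card ≤ 2 := Finset.card_le_two
  have h5 : ({C 1, C 65, C 9, C 73} : Finset Suz).card ≤ 4 := Finset.card_le_four
  calc Nat.card B ≤ _ := h1
    _ ≤ 2 * (4 * 3072) := Nat.mul_le_mul h4 (h2.trans (Nat.mul_le_mul h5 h3))
    _ = 24576 := by norm_num

/-! ### `w` normalises `T` -/

theorem r_w : Rep w (wd Cfsg.Agent.SuzThree.Elts.w0) := Rep.el _

open Cfsg.Agent.Schreier.SuzT (r_s1 r_s2 r_s3 r_s4 r_x5 r_x6 r_x11 r_x12) in
theorem w_s1 : w * s1 = s1 * w :=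
  eq_of_reps (r_w.mul (conv r_s1)) ((conv r_s1).mul r_w) (by decide +kernel)

open Cfsg.Agent.Schreier.SuzT (r_s1 r_s2 r_s3 r_s4 r_x5 r_x6 r_x11 r_x12) in
theorem w_s2 : w * s2 = s2 * w :=
  eq_of_reps (r_w.mul (conv r_s2)) ((conv r_s2).mul r_w) (by decide +kernel)

open Cfsg.Agent.Schreier.SuzT (r_s1 r_s2 r_s3 r_s4 r_x5 r_x6 r_x11 r_x12) in
theorem w_s3 : w * s3 = s3 * s4 * x6 * x11 * x12 * w :=
  eq_of_reps (r_w.mul (conv r_s3))
    ((((((conv r_s3).mul (conv r_s4)).mul (conv r_x6)).mul (conv r_x11)).mul (conv r_x12)).mul r_w) (by decide +kernel)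

open Cfsg.Agent.Schreier.SuzT (r_s1 r_s2 r_s3 r_s4 r_x5 r_x6 r_x11 r_x12) in
theorem w_s4 : w * s4 = s3 * x5 * x11 * x12 * w :=
  eq_of_reps (r_w.mul (conv r_s4))
    (((((conv r_s3).mul (conv r_x5)).mul (conv r_x11)).mul (conv r_x12)).mul r_w) (by decide +kernel)

open Cfsg.Agent.Schreier.Suz in
theorem w_T {t : Suz} (ht : t ∈ T) : w * t * w⁻¹ ∈ T := by
  have hle : T ≤ T.comap (MulAut.conj w).toMonoidHom := by
    nth_rw 1 [T_def]
    rw [closure_le]
    refine forall_S ?_ ?_ ?_ ?_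
    · show w * s1 * w⁻¹ ∈ T
      rw [w_s1, mul_inv_cancel_right]; exact s1_mem
    · show w * s2 * w⁻¹ ∈ T
      rw [w_s2, mul_inv_cancel_right]; exact s2_mem
    · show w * s3 * w⁻¹ ∈ T
      rw [w_s3, mul_inv_cancel_right]
      exact mul_mem (mul_mem (mul_mem (mul_mem s3_mem s4_mem) x6_mem) x11_mem) x12_mem
    · show w * s4 * w⁻¹ ∈ T
      rw [w_s4, mul_inv_cancel_right]
      exact mul_mem (mul_mem (mul_mem s3_mem x5_mem) x11_mem) x12_mem
  exact hle ht

theorem w_normalizer : w ∈ normalizer (T : Set Suz) := by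
  rw [mem_normalizer_iff]
  intro t
  refine ⟨w_T, fun h => ?_⟩
  have h1 := w_T (w_T h)
  have h3 : w * w * w = 1 := by
    have := w3
    rwa [pow_succ, pow_two] at this
  have hi : w⁻¹ = w * w := inv_eq_of_mul_eq_one_left h3
  have e : w * (w * (w * t * w⁻¹) * w⁻¹) * w⁻¹ = t := by
    calc w * (w * (w * t * w⁻¹) * w⁻¹) * w⁻¹ = (w * w * w) * t * (w * w * w)⁻¹ := by group
      _ = t := by rw [h3]; group
  rwa [e] at h1

theorem mem_normalizer_of_both {A : Subgroup Suz} {t : Suz} (h : ∀ a ∈ A, t * a * t⁻¹ ∈ A)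
    (h' : ∀ a ∈ A, t⁻¹ * a * t⁻¹⁻¹ ∈ A) : t ∈ normalizer (A : Set Suz) := by
  rw [mem_normalizer_iff]
  refine fun x => ⟨h x, fun hx => ?_⟩
  have := h' _ hx
  have e : t⁻¹ * (t * x * t⁻¹) * t⁻¹⁻¹ = x := by group
  rwa [e] at this

theorem N_le_B {t : Suz} (ht : t ∈ normalizer (T : Set Suz)) : t ∈ B := by
  have h := N_T ht
  have h' := N_T (Subgroup.inv_mem _ ht)
  exact ⟨mem_C1.2 h.1, mem_normalizer_of_both h.2.1 h'.2.1, mem_normalizer_of_both h.2.2 h'.2.2⟩

theorem T_le_B : T ≤ B := fun _ ht => N_le_B (le_normalizer ht)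

theorem w_ne : w ≠ 1 := by
  intro h
  have h1 := act_w.gen 2 (by norm_num)
  rw [h, one_mul, inv_one, mul_one] at h1
  have h2 : C 4 = C 96 := by
    rw [← show C (2 ^ 2) = C 4 from rfl, C, cod_pow (by norm_num : 2 < 6), h1]; rfl
  exact absurd (C_inj' (by norm_num) (by norm_num) h2) (by norm_num)

theorem card_Tw : 24576 ≤ Nat.card (T ⊔ zpowers w : Subgroup Suz) := by
  have hfin := Cfsg.Agent.SporadicRecognition.SuzOrder.finiteSuz
  have ho : orderOf w = 3 := by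
    have : Fact (Nat.Prime 3) := ⟨Nat.prime_three⟩
    exact orderOf_eq_prime w3 w_ne
  have h1 : 3 ∣ Nat.card (T ⊔ zpowers w : Subgroup Suz) := by
    rw [← ho, ← Nat.card_zpowers]
    exact card_dvd_of_le le_sup_right
  have h2 : 2 ^ 13 ∣ Nat.card (T ⊔ zpowers w : Subgroup Suz) := by
    rw [← Cfsg.Agent.Schreier.Suz.card_T]
    exact card_dvd_of_le le_sup_left
  have h3 : 3 * 2 ^ 13 ∣ Nat.card (T ⊔ zpowers w : Subgroup Suz) :=
    Nat.Coprime.mul_dvd_of_dvd_of_dvd (by norm_num) h1 h2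
  have := Nat.le_of_dvd Nat.card_pos h3
  omega

theorem B_eq : T ⊔ zpowers w = B := by
  have hfin := Cfsg.Agent.SporadicRecognition.SuzOrder.finiteSuz
  refine eq_of_le_of_card_ge (sup_le T_le_B (zpowers_le.2 (N_le_B w_normalizer))) ?_
  exact card_B_le.trans card_Tw

theorem exists_of_mem_B {g : Suz} (hg : g ∈ B) : ∃ s ∈ T, ∃ k : ℕ, g = s * w ^ k := by
  rw [← B_eq] at hg
  have hfin := Cfsg.Agent.SporadicRecognition.SuzOrder.finiteSuz
  have hn : zpowers w ≤ normalizer (T : Set Suz) := zpowers_le.2 w_normalizer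
  rw [← SetLike.mem_coe, coe_mul_of_right_le_normalizer_left T (zpowers w) hn] at hg
  obtain ⟨s, hs, y, hy, rfl⟩ := Set.mem_mul.1 hg
  obtain ⟨k, rfl⟩ := mem_powers_iff_mem_zpowers.2 hy
  exact ⟨s, hs, k, rfl⟩

/-- **the stabiliser of the flag** -/
theorem of_flag {g : Suz} (h0 : g * z0 = z0 * g) (h1 : ∀ a ∈ A1, g * a * g⁻¹ ∈ A1) (h2 : ∀ a ∈ A2, g * a * g⁻¹ ∈ A2) :
    ∃ s ∈ T, ∃ k : ℕ, g = s * w ^ k := by
  have hfin := Cfsg.Agent.SporadicRecognition.SuzOrder.finiteSuz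
  have key : ∀ A : Subgroup Suz, (∀ a ∈ A, g * a * g⁻¹ ∈ A) → g ∈ normalizer (A : Set Suz) := by
    intro A hA
    have hle : A.map (MulAut.conj g).toMonoidHom ≤ A := by
      rintro _ ⟨a, ha, rfl⟩
      exact hA a ha
    refine mem_normalizer_of_map (eq_of_le_of_card_ge hle ?_)
    rw [card_map_of_injective (MulAut.conj g).injective]
  exact exists_of_mem_B ⟨mem_C1.2 h0, key A1 h1, key A2 h2⟩

end Cfsg.Agent.H895.Pron.SuzB
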