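import Cfsg.Agent.H895.Pron.SuzB

/-!
# The normal elementary abelian subgroups of the Sylow 2-subgroup of `Suz` (helper895)

* `V = A2 ∪ h1 A2`, `EL`, `cov`, `w_V`.
-/

set_option autoImplicit false
set_option maxRecDepth 100000

namespace Cfsg.Agent.H895.Pron.SuzC

open Cfsg.Spor Cfsg.Agent.Lib.PermNet Cfsg.Agent.Lib.PermNetOrbit Cfsg.Agent.SporadicRecognition.SuzPhi
  Cfsg.Agent.SporadicRecognition.SuzBound Cfsg.Agent.SporadicRecognition.SuzOrder
  Cfsg.Agent.SporadicRecognition.SuzNet Cfsg.Agent.Schreier.SuzNetT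
  Cfsg.Agent.SuzThree.Basic Cfsg.Agent.SuzThree.CentA Cfsg.Agent.SuzThree.QZero
  Cfsg.Agent.KFacts.Codes Cfsg.Agent.KFacts.Orbits Cfsg.Agent.KFacts.SuzLarge Cfsg.Agent.KFacts.LargeO2
  Cfsg.Agent.H895.Pron.SuzS Cfsg.Agent.H895.Pron.SuzB Subgroup

open Cfsg.Agent.KFacts.SuzR hiding s1 s2

open Cfsg.Agent.Schreier.SuzT (s1 s2 s3 s4 x4 x5 x6 x7 x8 x9 x10 x11 x12)
open Cfsg.Agent.Schreier.Suz (T)

/-- `Q0` by codes -/
theorem exists_code {q : Suz} (hq : q ∈ Q0) : ∃ c < 128, C c = q := by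
  rw [Q0_eq] at hq
  exact (mem_RG rels tri).1 hq

/-! ### `h1` -/

theorem h1_sq : el h1 * el h1 = 1 := by
  have := pow_one_of (w := h1) 2 (by decide +kernel)
  rwa [pow_two] at this

theorem h1_inv : (el h1)⁻¹ = el h1 := inv_eq_of_mul_eq_one_right h1_sq

theorem h1_mem : el h1 ∈ T := by rw [← e_x8]; exact Cfsg.Agent.Schreier.Suz.x8_mem

theorem h1_comm {a : Suz} (ha : a ∈ A2) : el h1 * a = a * el h1 := by
  obtain ⟨c, hc, rfl⟩ := ha
  have h := act_h1.conj c
  have : ∀ c ∈ lA2, act BB 6 (img l_h1) c = c := by decide +kernel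
  rw [this c hc] at h
  exact mul_inv_eq_iff_eq_mul.1 h

/-- the subgroup `V` -/
noncomputable def V : Subgroup Suz where
  carrier := {g | g ∈ A2 ∨ ∃ a ∈ A2, g = el h1 * a}
  one_mem' := Or.inl A2.one_mem
  mul_mem' := by
    rintro g g' (h | ⟨a, ha, rfl⟩) (h' | ⟨a', ha', rfl⟩)
    · exact Or.inl (A2.mul_mem h h')
    · right
      refine ⟨g * a', A2.mul_mem h ha', ?_⟩
      rw [← mul_assoc, ← h1_comm h, mul_assoc]
    · right
      exact ⟨a * g', A2.mul_mem ha h', by rw [mul_assoc]⟩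
    · left
      have e : el h1 * a * (el h1 * a') = a * a' := by
        rw [h1_comm ha, mul_assoc, ← mul_assoc (el h1), h1_sq, one_mul]
      rw [e]
      exact A2.mul_mem ha ha'
  inv_mem' := by
    rintro g (h | ⟨a, ha, rfl⟩)
    · exact Or.inl (A2.inv_mem h)
    · right
      refine ⟨a⁻¹, A2.inv_mem ha, ?_⟩
      rw [mul_inv_rev, h1_inv, h1_comm (A2.inv_mem ha)]

theorem mem_V {g : Suz} : g ∈ V ↔ g ∈ A2 ∨ ∃ a ∈ A2, g = el h1 * a := Iff.rfl

theorem A2_le_V : A2 ≤ V := fun _ h => Or.inl h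

theorem V_le_T : V ≤ T := by
  rintro g (h | ⟨a, ha, rfl⟩)
  · exact Q0_le_T (A2_le_Q0 h)
  · exact T.mul_mem h1_mem (Q0_le_T (A2_le_Q0 ha))

theorem w_h1 : w * el h1 = el h1 * w :=
  eq_of_reps (r_w.mul (Rep.el h1)) ((Rep.el h1).mul r_w) (by decide +kernel)

theorem w_A2 {a : Suz} (ha : a ∈ A2) : w * a = a * w := by
  obtain ⟨c, hc, rfl⟩ := ha
  have h := act_w.conj c
  have : ∀ c ∈ lA2, act BB 6 (img l_w) c = c := by decide +kernel
  rw [this c hc] at h
  exact mul_inv_eq_iff_eq_mul.1 h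

theorem w_V {v : Suz} (hv : v ∈ V) : w * v = v * w := by
  rcases hv with h | ⟨a, ha, rfl⟩
  · exact w_A2 h
  · rw [← mul_assoc, w_h1, mul_assoc, w_A2 ha, mul_assoc]

/-! ### `cov` -/

theorem cov {s : Suz} (hs : s ∈ T) : ∃ q ∈ Q0, ∀ a ∈ A1, q⁻¹ * s * a = a * (q⁻¹ * s) := by
  have hz : s * z0 = z0 * s := T_comm hs
  have hfix : ∀ t : Suz, t * z0 = z0 * t → t * C 8 = C 8 * t → ∀ a ∈ A1, t * a = a * t := by
    rintro t h1 h2 _ ⟨c, hc, rfl⟩
    have h72 : C 72 = z0 * C 8 := by rw [← C_64, C_mul']; congr 1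
    simp only [lA1, List.mem_cons, List.not_mem_nil, or_false] at hc
    rcases hc with rfl | rfl | rfl | rfl
    · rw [C_zero']; group
    · rw [C_64]; exact h1
    · exact h2
    · rw [h72, ← mul_assoc, h1, mul_assoc, h2, mul_assoc]
  obtain ⟨c, hc, hcc⟩ := (N_T (le_normalizer hs)).2.1 (C 8) ⟨8, by decide, rfl⟩
  have h8 : C 8 = s⁻¹ * (s * C 8 * s⁻¹) * s := by group
  simp only [lA1, List.mem_cons, List.not_mem_nil, or_false] at hc
  rcases hc with rfl | rfl | rfl | rfl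
  · exfalso
    rw [← hcc, C_zero'] at h8
    have h9 : C 8 = C 0 := by rw [h8, C_zero']; group
    exact absurd (C_inj' (by norm_num) (by norm_num) h9) (by norm_num)
  · exfalso
    rw [← hcc, C_64] at h8
    have h9 : C 8 = C 64 := by rw [h8, C_64, mul_assoc, ← hz]; group
    exact absurd (C_inj' (by norm_num) (by norm_num) h9) (by norm_num)
  · refine ⟨1, Q0.one_mem, ?_⟩
    rw [inv_one, one_mul]
    exact hfix s hz (mul_inv_eq_iff_eq_mul.1 hcc.symm)
  · refine ⟨C 16, C_mem 16, ?_⟩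
    apply hfix
    · have h1 : C 16 * z0 = z0 * C 16 := T_comm (Q0_le_T (C_mem 16))
      have h2 : (C 16)⁻¹ * z0 = z0 * (C 16)⁻¹ := by
        rw [inv_mul_eq_iff_eq_mul, ← mul_assoc, h1, mul_inv_cancel_right]
      rw [mul_assoc, hz, ← mul_assoc, h2, mul_assoc]
    · have h1 : C 16 * C 8 = C 72 * C 16 := by
        rw [C_mul', C_mul']; congr 1
      have h2 : s * C 8 = C 72 * s := mul_inv_eq_iff_eq_mul.1 hcc.symm
      have h3 : (C 16)⁻¹ * C 72 = C 8 * (C 16)⁻¹ := by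
        rw [inv_mul_eq_iff_eq_mul, ← mul_assoc, h1, mul_inv_cancel_right]
      rw [mul_assoc, h2, ← mul_assoc, h3, mul_assoc]

/-! ### elements acting on `Q0` modulo `A2` trivially -/

/-- the pruned enumeration -/
def enum : List ℕ → ℕ → Bool
  | f, 0 =>
    ((List.range 6).all fun i => f.getD (5 - i) 0 == 2 ^ i || f.getD (5 - i) 0 == 2 ^ i ^^^ 64) ||
    ((List.range 6).all fun i => f.getD (5 - i) 0 == img l_h1 i || f.getD (5 - i) 0 == img l_h1 i ^^^ 64)
  | f, k + 1 => lA2.all fun a =>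
    let c := mulc BB 6 a (2 ^ (5 - k))
    !(mulc BB 6 c c == mulc BB 6 (2 ^ (5 - k)) (2 ^ (5 - k)) &&
      (List.range (5 - k)).all fun j =>
        (mulc BB 6 c (f.getD (4 - k - j) 0) == mulc BB 6 (f.getD (4 - k - j) 0) c) ==
          (mulc BB 6 (2 ^ (5 - k)) (2 ^ j) == mulc BB 6 (2 ^ j) (2 ^ (5 - k)))) || enum (c :: f) k

theorem enum_ok : enum [] 6 = true := by decide +kernel

theorem enum_step {f : List ℕ} {k : ℕ} (h : enum f (k + 1) = true) {a : ℕ} (ha : a ∈ lA2)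
    (h1 : mulc BB 6 (mulc BB 6 a (2 ^ (5 - k))) (mulc BB 6 a (2 ^ (5 - k))) = mulc BB 6 (2 ^ (5 - k)) (2 ^ (5 - k)))
    (h2 : ∀ j < 5 - k, (mulc BB 6 (mulc BB 6 a (2 ^ (5 - k))) (f.getD (4 - k - j) 0) =
      mulc BB 6 (f.getD (4 - k - j) 0) (mulc BB 6 a (2 ^ (5 - k)))) ↔
        (mulc BB 6 (2 ^ (5 - k)) (2 ^ j) = mulc BB 6 (2 ^ j) (2 ^ (5 - k)))) :
    enum (mulc BB 6 a (2 ^ (5 - k)) :: f) k = true := by
  rw [enum, List.all_eq_true] at h
  have h3 := h a ha
  simp only [Bool.or_eq_true, Bool.not_eq_true', Bool.and_eq_false_iff] at h3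
  rcases h3 with (h3 | h3) | h3
  · exfalso
    rw [h1] at h3
    simp at h3
  · exfalso
    rw [← Bool.not_eq_true] at h3
    apply h3
    rw [List.all_eq_true]
    intro j hj
    rw [beq_iff_eq, Bool.eq_iff_iff, beq_iff_eq, beq_iff_eq]
    exact h2 j (List.mem_range.1 hj)
  · exact h3

/-- the list of the first values -/
def L (F : ℕ → ℕ) : ℕ → List ℕ
  | 0 => []
  | m + 1 => F m :: L F m

theorem L_getD (F : ℕ → ℕ) : ∀ m j : ℕ, j < m → (L F m).getD (m - 1 - j) 0 = F j := by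
  intro m
  induction m with
  | zero => intro j hj; omega
  | succ m ih =>
    intro j hj
    rw [L]
    rcases Nat.lt_succ_iff_lt_or_eq.1 hj with h | h
    · have e : m + 1 - 1 - j = (m - 1 - j) + 1 := by omega
      rw [e, List.getD_cons_succ]
      exact ih j h
    · subst h
      simp

theorem mulc_lt {c d : ℕ} (hc : c < 128) (hd : d < 128) : mulc BB 6 c d < 128 := by
  rw [mulc]
  apply Nat.xor_lt_two_pow (n := 7)
  · exact Nat.xor_lt_two_pow (n := 7) hc hd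
  · split_ifs <;> norm_num

theorem lA2_lt : ∀ a ∈ lA2, a < 128 := by decide

theorem pow_lt {i : ℕ} (hi : i < 6) : 2 ^ i < 128 := by interval_cases i <;> norm_num

theorem x_eq {i : ℕ} (hi : i < 6) : C (2 ^ i) = xx i := cod_pow hi

theorem C_xor (c : ℕ) : C (c ^^^ 64) = C c * z0 := by
  have h := cod_xor_flag rels c true
  rw [if_pos rfl] at h
  rw [C, show (64 : ℕ) = 2 ^ 6 by norm_num, h]
  exact (T_comm (Q0_le_T (C_mem c))).symm

theorem mem_Q0_of {y : Suz} (hz : y * z0 = z0 * y) (h : ∀ i < 6, y * xx i * y⁻¹ = xx i ∨ y * xx i * y⁻¹ = xx i * z0) :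
    y ∈ Q0 := by
  have hfin := Cfsg.Agent.SporadicRecognition.SuzOrder.finiteSuz
  apply mem_of_triv large hz
  have hle : Q0 ≤ fixQ large {y} := by
    nth_rw 1 [Q0_eq]
    rw [RG, closure_le]
    rintro g (rfl | ⟨i, hi, rfl⟩)
    · rw [SetLike.mem_coe, mem_fixQ]
      refine ⟨z_mem, ?_⟩
      rintro _ rfl
      left
      rw [hz, mul_inv_cancel_right]
    · rw [SetLike.mem_coe, mem_fixQ]
      refine ⟨?_, ?_⟩
      · rw [← x_eq hi]; exact C_mem _
      · rintro _ rfl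
        exact h i hi
  intro x hx
  exact (hle hx).2 y rfl

theorem of_triv_A2 {y : Suz} (hz : y * z0 = z0 * y) (h : ∀ q ∈ Q0, y * q * y⁻¹ * q⁻¹ ∈ A2) :
    y ∈ Q0 ∨ ∃ q ∈ Q0, y = el h1 * q := by
  classical
  have hex : ∀ i : ℕ, ∃ a ∈ lA2, y * C (2 ^ i) * y⁻¹ = C (mulc BB 6 a (2 ^ i)) := by
    intro i
    obtain ⟨a, ha, haa⟩ := h (C (2 ^ i)) (C_mem _)
    refine ⟨a, ha, ?_⟩
    rw [← C_mul', haa, inv_mul_cancel_right]
  choose a ha hya using hex
  have hlt : ∀ i < 6, mulc BB 6 (a i) (2 ^ i) < 128 := fun i hi => mulc_lt (lA2_lt _ (ha i)) (pow_lt hi)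
  -- squares
  have hsq : ∀ i < 6, mulc BB 6 (mulc BB 6 (a i) (2 ^ i)) (mulc BB 6 (a i) (2 ^ i)) = mulc BB 6 (2 ^ i) (2 ^ i) := by
    intro i hi
    apply C_inj' (mulc_lt (hlt i hi) (hlt i hi)) (mulc_lt (pow_lt hi) (pow_lt hi))
    have h0 : mulc BB 6 (2 ^ i) (2 ^ i) = 0 ∨ mulc BB 6 (2 ^ i) (2 ^ i) = 64 := by
      have : ∀ i < 6, mulc BB 6 (2 ^ i) (2 ^ i) = 0 ∨ mulc BB 6 (2 ^ i) (2 ^ i) = 64 := by decide +kernel
      exact this i hi
    rw [← C_mul', ← hya i]
    have e : y * C (2 ^ i) * y⁻¹ * (y * C (2 ^ i) * y⁻¹) = y * (C (2 ^ i) * C (2 ^ i)) * y⁻¹ := by group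
    rw [e, C_mul']
    rcases h0 with h0 | h0
    · rw [h0, C_zero']; group
    · rw [h0, C_64, hz, mul_inv_cancel_right]
  have hcm : ∀ i < 6, ∀ j < 6, (mulc BB 6 (mulc BB 6 (a i) (2 ^ i)) (mulc BB 6 (a j) (2 ^ j)) =
      mulc BB 6 (mulc BB 6 (a j) (2 ^ j)) (mulc BB 6 (a i) (2 ^ i))) ↔
      (mulc BB 6 (2 ^ i) (2 ^ j) = mulc BB 6 (2 ^ j) (2 ^ i)) := by
    intro i hi j hj
    have e1 : ∀ i j, C (mulc BB 6 (mulc BB 6 (a i) (2 ^ i)) (mulc BB 6 (a j) (2 ^ j))) =
        y * (C (2 ^ i) * C (2 ^ j)) * y⁻¹ := by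
      intro i j
      rw [← C_mul' (mulc BB 6 (a i) (2 ^ i)), ← hya i, ← hya j]; group
    constructor
    · intro h1
      apply C_inj' (mulc_lt (pow_lt hi) (pow_lt hj)) (mulc_lt (pow_lt hj) (pow_lt hi))
      have h2 := congrArg C h1
      rw [e1, e1] at h2
      rw [← C_mul', ← C_mul']
      exact mul_left_cancel (mul_right_cancel h2)
    · intro h1
      apply C_inj' (mulc_lt (hlt i hi) (hlt j hj)) (mulc_lt (hlt j hj) (hlt i hi))
      rw [e1, e1, C_mul', C_mul', h1]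
  have hL : ∀ m ≤ 6, enum (L (fun i => mulc BB 6 (a i) (2 ^ i)) m) (6 - m) = true := by
    intro m
    induction m with
    | zero => intro _; exact enum_ok
    | succ m ih =>
      intro hm
      have h1 := ih (by omega)
      have e : 6 - m = (5 - m) + 1 := by omega
      rw [e] at h1
      have e2 : 6 - (m + 1) = 5 - m := by omega
      have e3 : 5 - (5 - m) = m := by omega
      have h2 := enum_step h1 (ha m) (by rw [e3]; exact hsq m (by omega)) (by
        rw [e3]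
        intro j hj
        have e4 : 4 - (5 - m) - j = m - 1 - j := by omega
        rw [e4, L_getD _ m j hj]
        exact hcm m (by omega) j (by omega))
      rw [e3] at h2
      rw [e2]
      exact h2
  have h6 := hL 6 le_rfl
  rw [show 6 - 6 = 0 by norm_num, enum, Bool.or_eq_true, List.all_eq_true, List.all_eq_true] at h6
  rcases h6 with h6 | h6
  · left
    apply mem_Q0_of hz
    intro i hi
    have h7 := h6 i (List.mem_range.2 hi)
    rw [show (5 - i) = 6 - 1 - i by omega, L_getD _ 6 i hi, Bool.or_eq_true, beq_iff_eq, beq_iff_eq] at h7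
    rw [← x_eq hi, hya i]
    rcases h7 with h7 | h7
    · left; rw [h7]
    · right; rw [h7, C_xor]
  · right
    refine ⟨(el h1)⁻¹ * y, ?_, by group⟩
    have hhz : (el h1)⁻¹ * z0 = z0 * (el h1)⁻¹ := by
      rw [inv_mul_eq_iff_eq_mul, ← mul_assoc, act_h1.comm, mul_inv_cancel_right]
    apply mem_Q0_of
    · rw [mul_assoc, hz, ← mul_assoc, hhz, mul_assoc]
    intro i hi
    have h7 := h6 i (List.mem_range.2 hi)
    rw [show (5 - i) = 6 - 1 - i by omega, L_getD _ 6 i hi, Bool.or_eq_true, beq_iff_eq, beq_iff_eq] at h7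
    have h8 : (el h1)⁻¹ * C (img l_h1 i) * el h1 = xx i := by
      rw [← act_h1.gen i hi]; group
    have e : (el h1)⁻¹ * y * xx i * ((el h1)⁻¹ * y)⁻¹ = (el h1)⁻¹ * (y * xx i * y⁻¹) * el h1 := by group
    rw [e, ← x_eq hi, hya i, x_eq hi]
    rcases h7 with h7 | h7
    · left; rw [h7, h8]
    · right
      rw [h7, C_xor]
      have e2 : (el h1)⁻¹ * (C (img l_h1 i) * z0) * el h1 = (el h1)⁻¹ * C (img l_h1 i) * (z0 * el h1) := by group
      rw [e2, ← act_h1.comm, ← mul_assoc, h8]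

/-! ### the normal elementary abelian subgroups -/

def l_34 : List ℕ := [1, 40, 103, 8, 124, 66]

theorem act_34 : Act (s3 * s4) l_34 := act_s3.mul act_s4 l_34 (by decide +kernel)

theorem sq34 : ∀ c < 128, mulc BB 6 c c = 0 →
    mulc BB 6 (mulc BB 6 (act BB 6 (img l_34) c) c) (mulc BB 6 (act BB 6 (img l_34) c) c) = 0 → c ∈ lA2 := by
  decide +kernel

open Cfsg.Agent.Schreier.SuzT (r_s1 r_s2 r_s3 r_s4 r_x5 r_x6 r_x8 r_x10 r_x11 r_x12) in
theorem s1_h1 : s1 * el h1 = el h1 * C 65 * s1 := by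
  rw [← e_x10, ← e_x8]
  exact eq_of_reps ((conv r_s1).mul (conv r_x8)) (((conv r_x8).mul (conv r_x10)).mul (conv r_s1)) (by decide +kernel)

open Cfsg.Agent.Schreier.SuzT (r_s1 r_s2 r_s3 r_s4 r_x5 r_x6 r_x8 r_x10 r_x11 r_x12) in
theorem s2_h1 : s2 * el h1 = el h1 * (x11 * x12) * s2 := by
  rw [← e_x8]
  exact eq_of_reps ((conv r_s2).mul (conv r_x8)) (((conv r_x8).mul ((conv r_x11).mul (conv r_x12))).mul (conv r_s2))
    (by decide +kernel)

open Cfsg.Agent.Schreier.SuzT (r_s1 r_s2 r_s3 r_s4 r_x5 r_x6 r_x8 r_x10 r_x11 r_x12) in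
theorem s3_h1 : s3 * el h1 = el h1 * s3 := by
  rw [← e_x8]
  exact eq_of_reps ((conv r_s3).mul (conv r_x8)) ((conv r_x8).mul (conv r_s3)) (by decide +kernel)

open Cfsg.Agent.Schreier.SuzT (r_s1 r_s2 r_s3 r_s4 r_x5 r_x6 r_x8 r_x10 r_x11 r_x12) in
theorem s4_h1 : s4 * el h1 = el h1 * s4 := by
  rw [← e_x8]
  exact eq_of_reps ((conv r_s4).mul (conv r_x8)) ((conv r_x8).mul (conv r_s4)) (by decide +kernel)

/-- `[s, C c]` lies in `A2` -/
def chk (l : List ℕ) (c : ℕ) : Bool := lA2.any fun m => mulc BB 6 m c == act BB 6 (img l) c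

theorem V_code : ∀ c < 128, (mulc BB 6 (act BB 6 (img l_h1) c) c == 0 && chk l_s1 c && chk l_s2 c && chk l_s3 c &&
    chk l_s4 c) = true → c ∈ lA2 := by decide +kernel

theorem act_lt {l : List ℕ} (hl : ∀ i < 6, img l i < 128) {c : ℕ} (_hc : c < 128) : act BB 6 (img l) c < 128 := by
  rw [act]
  have h : ∀ k ≤ 6, aux BB 6 (img l) c k < 128 := by
    intro k
    induction k with
    | zero => intro _; rw [aux]; norm_num
    | succ k ih =>
      intro hk
      rw [aux]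
      split_ifs
      · exact mulc_lt (ih (by omega)) (hl k (by omega))
      · exact ih (by omega)
  apply Nat.xor_lt_two_pow (n := 7) (h 6 le_rfl)
  split_ifs <;> norm_num

theorem EL {N : Subgroup Suz} (hNT : N ≤ T) (hn : ∀ s ∈ T, ∀ n ∈ N, s * n * s⁻¹ ∈ N) (h2 : ∀ n ∈ N, n * n = 1)
    (hne : N ≠ ⊥) : (∀ n ∈ N, n = 1 ∨ n = z0) ∨ N = A1 ∨ (A2 ≤ N ∧ N ≤ V) := by
  have hcm : ∀ s ∈ T, ∀ n ∈ N, s * n * s⁻¹ * n⁻¹ ∈ N := fun s hs n hn' => N.mul_mem (hn s hs n hn') (N.inv_mem hn')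
  have hcm' : ∀ s ∈ T, ∀ n ∈ N, n * s * n⁻¹ * s⁻¹ ∈ N := fun s hs n hn' => by
    have h := N.mul_mem hn' (hn s hs _ (N.inv_mem hn'))
    have e : n * (s * n⁻¹ * s⁻¹) = n * s * n⁻¹ * s⁻¹ := by group
    rwa [e] at h
  -- `z0 ∈ N`
  have hz0 : ∀ q ∈ Q0, q ∈ N → q ≠ 1 → z0 ∈ N := by
    intro q hq hqN hq1
    by_cases hc : ∀ y ∈ Q0, y * q = q * y
    · rcases centralizer_R hc with h | h
      · exact absurd h hq1
      · rw [← h]; exact hqN
    · push Not at hc
      obtain ⟨y, hy, hyq⟩ := hc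
      have h1 := (R_comm hy hq).resolve_left hyq
      have h3 := hcm y (Q0_le_T hy) q hqN
      have e : y * q * y⁻¹ * q⁻¹ = z0 := by rw [h1]; group
      rwa [e] at h3
  have hzN : z0 ∈ N := by
    obtain ⟨n, hnN, hn1⟩ : ∃ n ∈ N, n ≠ 1 := by
      by_contra hc
      push Not at hc
      exact hne ((eq_bot_iff_forall N).2 hc)
    by_cases hnQ : n ∈ Q0
    · exact hz0 n hnQ hnN hn1
    · have hnz : n * z0 = z0 * n := T_comm (hNT hnN)
      by_contra hzN
      apply hnQ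
      have hfin := Cfsg.Agent.SporadicRecognition.SuzOrder.finiteSuz
      apply mem_of_triv large hnz
      intro x hx
      left
      by_contra hne'
      apply hzN
      refine hz0 (n * x * n⁻¹ * x⁻¹) ?_ (hcm' x (Q0_le_T hx) n hnN) ?_
      · exact Q0.mul_mem (normal_R (mem_C1.2 hnz) hx) (Q0.inv_mem hx)
      · intro h
        exact hne' (mul_inv_eq_one.1 h)
  have h64 : C 64 ∈ N := by rw [C_64]; exact hzN
  -- the codes
  have hcode : ∀ c < 128, C c ∈ N → c ∈ lA2 := by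
    intro c hc hcN
    have hsq : ∀ d < 128, C d ∈ N → mulc BB 6 d d = 0 := by
      intro d hd hdN
      apply C_inj' (mulc_lt hd hd) (by norm_num)
      rw [← C_mul', h2 _ hdN, C_zero']
    have h34 : ∀ i < 6, img l_34 i < 128 := by decide
    apply sq34 c hc (hsq c hc hcN)
    apply hsq _ (mulc_lt (act_lt h34 hc) hc)
    rw [← C_mul', ← act_34.conj c]
    exact N.mul_mem (hn _ (T.mul_mem Cfsg.Agent.Schreier.Suz.s3_mem Cfsg.Agent.Schreier.Suz.s4_mem) _ hcN) hcN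
  have hQN : ∀ q ∈ Q0, q ∈ N → q ∈ A2 := by
    intro q hq hqN
    obtain ⟨c, hc, rfl⟩ := exists_code hq
    exact ⟨c, hcode c hc hqN, rfl⟩
  have h0 : C 0 ∈ N := by rw [C_zero']; exact N.one_mem
  have hA1 : C 8 ∈ N → A1 ≤ N := by
    intro h8
    have h72 : C 72 ∈ N := mem_mulc h64 h8 (by decide +kernel)
    rintro _ ⟨c, hc, rfl⟩
    simp only [lA1, List.mem_cons, List.not_mem_nil, or_false] at hc
    rcases hc with rfl | rfl | rfl | rfl <;> assumption
  have hA2 : C 1 ∈ N → A2 ≤ N := by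
    intro h1
    have h3 := hn s2 Cfsg.Agent.Schreier.Suz.s2_mem _ h1
    have h4 : s2 * C 1 * s2⁻¹ = C 73 := by
      rw [act_s2.conj 1]; congr 1
    rw [h4] at h3
    have h72 : C 72 ∈ N := mem_mulc h1 h3 (by decide +kernel)
    have h8 : C 8 ∈ N := mem_mulc h64 h72 (by decide +kernel)
    have h9 : C 9 ∈ N := mem_mulc h1 h8 (by decide +kernel)
    have h65 : C 65 ∈ N := mem_mulc h64 h1 (by decide +kernel)
    rintro _ ⟨c, hc, rfl⟩
    simp only [lA2, List.mem_cons, List.not_mem_nil, or_false] at hc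
    rcases hc with rfl | rfl | rfl | rfl | rfl | rfl | rfl | rfl <;> assumption
  have hA1' : C 8 ∈ N ∨ C 72 ∈ N → A1 ≤ N := by
    rintro (h | h)
    · exact hA1 h
    · exact hA1 (mem_mulc h64 h (by decide +kernel))
  have hA2' : C 1 ∈ N ∨ C 65 ∈ N ∨ C 9 ∈ N ∨ C 73 ∈ N → A2 ≤ N := by
    have h9 : C 9 ∈ N → A2 ≤ N := by
      intro h
      have h3 := hn s2 Cfsg.Agent.Schreier.Suz.s2_mem _ h
      have h4 : s2 * C 9 * s2⁻¹ = C 65 ∨ s2 * C 9 * s2⁻¹ = C 1 := by
        rw [act_s2.conj 9]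
        have : act BB 6 (img l_s2) 9 = 65 ∨ act BB 6 (img l_s2) 9 = 1 := by decide +kernel
        rcases this with h | h <;> rw [h]
        · left; rfl
        · right; rfl
      rcases h4 with h4 | h4
      · rw [h4] at h3
        exact hA2 (mem_mulc h64 h3 (by decide +kernel))
      · rw [h4] at h3
        exact hA2 h3
    rintro (h | h | h | h)
    · exact hA2 h
    · exact hA2 (mem_mulc h64 h (by decide +kernel))
    · exact h9 h
    · exact h9 (mem_mulc h64 h (by decide +kernel))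
  by_cases hNQ : N ≤ Q0
  · by_cases h1 : C 1 ∈ N ∨ C 65 ∈ N ∨ C 9 ∈ N ∨ C 73 ∈ N
    · right; right
      exact ⟨hA2' h1, fun n hnN => A2_le_V (hQN n (hNQ hnN) hnN)⟩
    · by_cases h8 : C 8 ∈ N ∨ C 72 ∈ N
      · right; left
        refine le_antisymm ?_ (hA1' h8)
        intro n hnN
        obtain ⟨c, hc, rfl⟩ := hQN n (hNQ hnN) hnN
        push Not at h1
        simp only [lA2, List.mem_cons, List.not_mem_nil, or_false] at hc
        rcases hc with rfl | rfl | rfl | rfl | rfl | rfl | rfl | rfl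
        · exact ⟨0, by decide, rfl⟩
        · exact ⟨64, by decide, rfl⟩
        · exact ⟨8, by decide, rfl⟩
        · exact ⟨72, by decide, rfl⟩
        · exact absurd hnN h1.1
        · exact absurd hnN h1.2.1
        · exact absurd hnN h1.2.2.1
        · exact absurd hnN h1.2.2.2
      · left
        intro n hnN
        obtain ⟨c, hc, rfl⟩ := hQN n (hNQ hnN) hnN
        push Not at h1 h8
        simp only [lA2, List.mem_cons, List.not_mem_nil, or_false] at hc
        rcases hc with rfl | rfl | rfl | rfl | rfl | rfl | rfl | rfl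
        · left; exact C_zero'
        · right; exact C_64
        · exact absurd hnN h8.1
        · exact absurd hnN h8.2
        · exact absurd hnN h1.1
        · exact absurd hnN h1.2.1
        · exact absurd hnN h1.2.2.1
        · exact absurd hnN h1.2.2.2
  · right; right
    -- an element outside `Q0`
    have hout : ∀ y ∈ N, y ∉ Q0 → ∃ a ∈ A2, y = el h1 * a := by
      intro y hy hyQ
      have hyz : y * z0 = z0 * y := T_comm (hNT hy)
      rcases of_triv_A2 hyz (fun q hq => hQN _ (Q0.mul_mem (normal_R (mem_C1.2 hyz) hq) (Q0.inv_mem hq))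
        (hcm' q (Q0_le_T hq) y hy)) with h | ⟨q, hq, rfl⟩
      · exact absurd h hyQ
      obtain ⟨c, hc, rfl⟩ := exists_code hq
      refine ⟨C c, ⟨c, ?_, rfl⟩, rfl⟩
      have hact : ∀ (l : List ℕ) (s : Suz), s ∈ T → (∀ i < 6, img l i < 128) → Act s l →
          (∃ a ∈ A2, s * el h1 = el h1 * a * s) → chk l c = true := by
        rintro l s hs hl hsl ⟨a, ha, hsa⟩
        have h3 := hcm s hs _ hy
        have e : s * (el h1 * C c) * s⁻¹ * (el h1 * C c)⁻¹ = el h1 * (a * (s * C c * s⁻¹ * (C c)⁻¹)) * (el h1)⁻¹ := by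
          have : s * (el h1 * C c) * s⁻¹ * (el h1 * C c)⁻¹ = (s * el h1) * (C c * s⁻¹ * (C c)⁻¹) * (el h1)⁻¹ := by group
          rw [this, hsa]; group
        rw [e] at h3
        have h4 : a * (s * C c * s⁻¹ * (C c)⁻¹) ∈ Q0 :=
          Q0.mul_mem (A2_le_Q0 ha) (Q0.mul_mem (by rw [hsl.conj]; exact C_mem _) (Q0.inv_mem (C_mem _)))
        have h5 := hQN _ (normal_R (mem_C1.2 act_h1.comm) h4) h3
        have h6 : a * (s * C c * s⁻¹ * (C c)⁻¹) ∈ A2 := by
          have h7 := h1_comm h5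
          have h8 : el h1 * (a * (s * C c * s⁻¹ * (C c)⁻¹)) * (el h1)⁻¹ = a * (s * C c * s⁻¹ * (C c)⁻¹) := by
            calc el h1 * (a * (s * C c * s⁻¹ * (C c)⁻¹)) * (el h1)⁻¹ =
                  (el h1)⁻¹ * (el h1 * (el h1 * (a * (s * C c * s⁻¹ * (C c)⁻¹)) * (el h1)⁻¹)) := by
                    rw [inv_mul_cancel_left]
              _ = (el h1)⁻¹ * (el h1 * (a * (s * C c * s⁻¹ * (C c)⁻¹)) * (el h1)⁻¹ * el h1) := by rw [h7]
              _ = a * (s * C c * s⁻¹ * (C c)⁻¹) := by rw [inv_mul_cancel_right, inv_mul_cancel_left]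
          rwa [h8] at h5
        have h7 : s * C c * s⁻¹ * (C c)⁻¹ ∈ A2 := by
          have := A2.mul_mem (A2.inv_mem ha) h6
          rwa [inv_mul_cancel_left] at this
        obtain ⟨m, hm, hmc⟩ := h7
        rw [chk, List.any_eq_true]
        refine ⟨m, hm, ?_⟩
        rw [beq_iff_eq]
        apply C_inj' (mulc_lt (lA2_lt m hm) hc) (act_lt hl hc)
        rw [← C_mul', hmc, ← hsl.conj]
        group
      apply V_code c hc
      simp only [Bool.and_eq_true]
      refine ⟨⟨⟨⟨?_, ?_⟩, ?_⟩, ?_⟩, ?_⟩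
      · have h3 := h2 _ hy
        have hh : ∀ i < 6, img l_h1 i < 128 := by decide
        rw [beq_iff_eq]
        apply C_inj' (mulc_lt (act_lt hh hc) hc) (by norm_num)
        rw [← C_mul', ← act_h1.conj, C_zero', h1_inv]
        rw [← h3]
        group
      · exact hact _ s1 Cfsg.Agent.Schreier.Suz.s1_mem (by decide) act_s1 ⟨C 65, ⟨65, by decide, rfl⟩, s1_h1⟩
      · refine hact _ s2 Cfsg.Agent.Schreier.Suz.s2_mem (by decide) act_s2 ⟨x11 * x12, ?_, s2_h1⟩
        rw [e_x11, e_x12]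
        exact A2.mul_mem ⟨72, by decide, rfl⟩ ⟨64, by decide, rfl⟩
      · exact hact _ s3 Cfsg.Agent.Schreier.Suz.s3_mem (by decide) act_s3 ⟨1, A2.one_mem, by rw [mul_one]; exact s3_h1⟩
      · exact hact _ s4 Cfsg.Agent.Schreier.Suz.s4_mem (by decide) act_s4 ⟨1, A2.one_mem, by rw [mul_one]; exact s4_h1⟩
    obtain ⟨y, hy, hyQ⟩ := SetLike.not_le_iff_exists.1 hNQ
    obtain ⟨a, ha, rfl⟩ := hout y hy hyQ
    obtain ⟨c, hc, rfl⟩ := ha
    have hstep : C (mulc BB 6 (act BB 6 (img l_h1) (mulc BB 6 (mulc BB 6 c 16) c)) 16) ∈ N := by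
      have h3 := hcm' (C 16) (Q0_le_T (C_mem 16)) _ hy
      have hi : ∀ d : ℕ, mulc BB 6 d d = 0 → (C d)⁻¹ = C d := by
        intro d hd
        apply inv_eq_of_mul_eq_one_right
        rw [C_mul', hd, C_zero']
      have hcc : (C c)⁻¹ = C c := by
        apply hi
        have : ∀ c ∈ lA2, mulc BB 6 c c = 0 := by decide +kernel
        exact this c hc
      have h16 : (C 16)⁻¹ = C 16 := hi 16 (by decide +kernel)
      rw [← C_mul', ← act_h1.conj, ← C_mul', ← C_mul']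
      nth_rw 2 [← hcc]
      nth_rw 2 [← h16]
      have e : el h1 * C c * C 16 * (el h1 * C c)⁻¹ * (C 16)⁻¹ = el h1 * (C c * C 16 * (C c)⁻¹) * (el h1)⁻¹ * (C 16)⁻¹ := by
        group
      rw [← e]
      exact h3
    refine ⟨?_, ?_⟩
    · apply hA2'
      have : ∀ c ∈ lA2, mulc BB 6 (act BB 6 (img l_h1) (mulc BB 6 (mulc BB 6 c 16) c)) 16 ∈ [1, 65, 9, 73] := by
        decide +kernel
      have h5 := this c hc
      simp only [List.mem_cons, List.not_mem_nil, or_false] at h5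
      rcases h5 with h5 | h5 | h5 | h5 <;> rw [h5] at hstep
      · exact Or.inl hstep
      · exact Or.inr (Or.inl hstep)
      · exact Or.inr (Or.inr (Or.inl hstep))
      · exact Or.inr (Or.inr (Or.inr hstep))
    · intro n hnN
      by_cases hnQ : n ∈ Q0
      · exact A2_le_V (hQN n hnQ hnN)
      · exact Or.inr (hout n hnN hnQ)

end Cfsg.Agent.H895.Pron.SuzC
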