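import Cfsg.Agent.H895.Pron.SuzC

/-!
# The 45 conjugates of `A2` in `C(z0)` in the Suzuki group and the overgroups of `T` in `C(z0)` (helper895)

* `FB` : an overgroup of `T` in `C(z0)` not containing `w` normalises `A2`.
-/

set_option autoImplicit false
set_option maxRecDepth 100000

namespace Cfsg.Agent.H895.Pron.SuzD

open Cfsg.Spor Cfsg.Agent.Lib.PermNet Cfsg.Agent.Lib.PermNetOrbit Cfsg.Agent.SporadicRecognition.SuzPhi
  Cfsg.Agent.SporadicRecognition.SuzBound Cfsg.Agent.SporadicRecognition.SuzOrder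
  Cfsg.Agent.SporadicRecognition.SuzNet Cfsg.Agent.Schreier.SuzNetT
  Cfsg.Agent.SuzThree.Basic Cfsg.Agent.SuzThree.CentA Cfsg.Agent.SuzThree.QZero
  Cfsg.Agent.KFacts.Codes Cfsg.Agent.KFacts.Orbits Cfsg.Agent.KFacts.SuzLarge Cfsg.Agent.KFacts.LargeO2
  Cfsg.Agent.H895.Pron.SuzS Cfsg.Agent.H895.Pron.SuzB Cfsg.Agent.H895.Pron.SuzC Subgroup

open Cfsg.Agent.KFacts.SuzR hiding s1 s2

open Cfsg.Agent.Schreier.SuzT (s1 s2 s3 s4 x4 x5 x6 x7 x8 x9 x10 x11 x12 r_s1 r_s2 r_s3 r_s4)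
open Cfsg.Agent.Schreier.Suz (T)

/-- the codes of the conjugates -/
def lns : List (List ℕ) :=
  [[0, 64, 1, 65, 8, 72, 9, 73], [0, 64, 2, 66, 8, 72, 10, 74], [0, 64, 4, 68, 8, 72, 12, 76], [0, 64, 8, 72,
  39, 103, 47, 111], [0, 64, 8, 72, 32, 96, 40, 104], [0, 64, 9, 73, 18, 82, 27, 91], [0, 64, 1, 65, 16, 80,
  17, 81], [0, 64, 9, 73, 20, 84, 29, 93], [0, 64, 1, 65, 60, 124, 61, 125], [0, 64, 1, 65, 30, 94, 31, 95],
  [0, 64, 9, 73, 55, 119, 62, 126], [0, 64, 1, 65, 58, 122, 59, 123], [0, 64, 9, 73, 48, 112, 57, 121], [0,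
  64, 10, 74, 17, 81, 27, 91], [0, 64, 12, 76, 17, 81, 29, 93], [0, 64, 27, 91, 39, 103, 60, 124], [0, 64, 4,
  68, 27, 91, 31, 95], [0, 64, 20, 84, 40, 104, 60, 124], [0, 64, 17, 81, 47, 111, 62, 126], [0, 64, 29, 93,
  32, 96, 61, 125], [0, 64, 2, 66, 29, 93, 31, 95], [0, 64, 27, 91, 32, 96, 59, 123], [0, 64, 30, 94, 32, 96,
  62, 126], [0, 64, 18, 82, 47, 111, 61, 125], [0, 64, 17, 81, 40, 104, 57, 121], [0, 64, 2, 66, 60, 124, 62,
  126], [0, 64, 31, 95, 40, 104, 55, 119], [0, 64, 4, 68, 16, 80, 20, 84], [0, 64, 20, 84, 47, 111, 59, 123],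
  [0, 64, 29, 93, 39, 103, 58, 122], [0, 64, 30, 94, 39, 103, 57, 121], [0, 64, 4, 68, 58, 122, 62, 126], [0,
  64, 16, 80, 39, 103, 55, 119], [0, 64, 2, 66, 16, 80, 18, 82], [0, 64, 12, 76, 48, 112, 60, 124], [0, 64,
  4, 68, 57, 121, 61, 125], [0, 64, 31, 95, 47, 111, 48, 112], [0, 64, 12, 76, 55, 119, 59, 123], [0, 64, 12,
  76, 18, 82, 30, 94], [0, 64, 18, 82, 40, 104, 58, 122], [0, 64, 10, 74, 20, 84, 30, 94], [0, 64, 10, 74,
  48, 112, 58, 122], [0, 64, 2, 66, 57, 121, 59, 123], [0, 64, 16, 80, 32, 96, 48, 112], [0, 64, 10, 74, 55,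
  119, 61, 125]]

/-- the action of the generators -/
def nx : List (List ℕ) :=
  [[1, 0, 2, 4, 3, 13, 33, 40, 42, 20, 41, 25, 44, 5, 38, 21, 16, 28, 39, 30, 9, 15, 29, 24, 23, 11, 36, 27,
  17, 22, 19, 31, 43, 6, 37, 35, 26, 34, 14, 18, 7, 10, 8, 32, 12], [0, 2, 1, 4, 3, 7, 6, 5, 8, 9, 12, 11,
  10, 14, 13, 19, 20, 23, 24, 15, 16, 29, 30, 17, 18, 35, 36, 33, 39, 21, 22, 42, 43, 27, 44, 25, 26, 41, 40,
  28, 38, 37, 31, 32, 34], [0, 1, 2, 3, 4, 5, 6, 7, 8, 9, 10, 11, 12, 33, 27, 23, 38, 19, 32, 17, 40, 39, 26,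
  15, 43, 44, 22, 14, 29, 28, 36, 37, 18, 13, 35, 34, 30, 31, 16, 21, 20, 42, 41, 24, 25], [0, 5, 7, 10, 12,
  1, 6, 2, 8, 9, 3, 11, 4, 13, 14, 44, 40, 35, 18, 34, 38, 41, 36, 25, 24, 23, 30, 27, 31, 37, 26, 28, 32,
  33, 19, 17, 22, 29, 20, 42, 16, 21, 39, 43, 15], [0, 1, 4, 2, 3, 5, 6, 12, 9, 11, 7, 8, 10, 13, 24, 16, 21,
  36, 14, 30, 42, 15, 29, 38, 18, 20, 28, 43, 34, 35, 31, 19, 27, 33, 26, 22, 37, 17, 39, 23, 41, 44, 25, 32,
  40]]

/-- words -/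
def wds : List (List ℕ × ℕ) :=
  [([], 0), ([], 1), ([2], 1), ([3], 1), ([3, 2], 1), ([], 2), ([1], 2), ([2], 2), ([3, 1], 2), ([1, 2], 2),
  ([1, 3, 1], 2), ([3, 1, 2], 2), ([2, 1, 3, 1], 2), ([], 3), ([2], 3), ([3], 3), ([1, 2], 3), ([3, 2], 3),
  ([1, 3], 3), ([2, 3], 3), ([2, 1, 2], 3), ([3, 1, 2], 3), ([1, 3, 2], 3), ([2, 3, 2], 3), ([2, 1, 3], 3),
  ([3, 1, 3], 3), ([1, 2, 3], 3), ([3, 2, 3], 3), ([3, 2, 1, 2], 3), ([2, 3, 1, 2], 3), ([2, 1, 3, 2], 3),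
  ([3, 1, 3, 2], 3), ([1, 2, 3, 2], 3), ([3, 2, 3, 2], 3), ([3, 2, 1, 3], 3), ([2, 3, 1, 3], 3), ([2, 1, 2,
  3], 3), ([3, 1, 2, 3], 3), ([1, 3, 2, 3], 3), ([2, 3, 2, 1, 2], 3), ([3, 2, 3, 1, 2], 3), ([3, 2, 1, 3, 2],
  3), ([2, 3, 1, 3, 2], 3), ([2, 1, 2, 3, 2], 3), ([3, 1, 2, 3, 2], 3)]

/-- the generators of `T` -/
noncomputable def S : ℕ → Suz
  | 0 => s1
  | 1 => s2
  | 2 => s3
  | _ => s4

def SI : ℕ → List ℕ
  | 0 => l_s1
  | 1 => l_s2
  | 2 => l_s3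
  | _ => l_s4

theorem act_S (i : ℕ) : Act (S i) (SI i) := by
  match i with
  | 0 => exact act_s1
  | 1 => exact act_s2
  | 2 => exact act_s3
  | _ + 3 => exact act_s4

theorem S_mem (i : ℕ) : S i ∈ T := by
  match i with
  | 0 => exact Cfsg.Agent.Schreier.Suz.s1_mem
  | 1 => exact Cfsg.Agent.Schreier.Suz.s2_mem
  | 2 => exact Cfsg.Agent.Schreier.Suz.s3_mem
  | _ + 3 => exact Cfsg.Agent.Schreier.Suz.s4_mem

/-- words in the generators of `T` -/
noncomputable def tw : List ℕ → Suz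
  | [] => 1
  | i :: l => S i * tw l

def twa : List ℕ → ℕ → ℕ
  | [], c => c
  | i :: l, c => act BB 6 (img (SI i)) (twa l c)

theorem tw_mem (l : List ℕ) : tw l ∈ T := by
  induction l with
  | nil => exact T.one_mem
  | cons i l ih => exact T.mul_mem (S_mem i) ih

theorem tw_conj (l : List ℕ) (c : ℕ) : tw l * C c * (tw l)⁻¹ = C (twa l c) := by
  induction l with
  | nil => simp [tw, twa]
  | cons i l ih =>
    rw [tw, twa, ← (act_S i).conj, ← ih]
    group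

/-- words in the generators of `C1` -/
noncomputable def gw : List ℕ → Suz
  | [] => 1
  | i :: l => gg i * gw l

def gwa : List ℕ → ℕ → ℕ
  | [], c => c
  | i :: l, c => AA i (gwa l c)

theorem gw_mem (l : List ℕ) : gw l ∈ C1 := by
  induction l with
  | nil => exact C1.one_mem
  | cons i l ih => exact C1.mul_mem (gg_mem i) ih

theorem gw_conj (l : List ℕ) (c : ℕ) : gw l * C c * (gw l)⁻¹ = C (gwa l c) := by
  induction l with
  | nil => simp [gw, gwa]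
  | cons i l ih =>
    rw [gw, gwa, ← conj_AA i, ← ih]
    group

/-- the representatives of the orbits of `T` -/
def rl : ℕ → List ℕ
  | 0 => []
  | 1 => [0]
  | 2 => [3, 0]
  | _ => [0, 3, 0]

/-- the conjugates -/
def Ln (k : ℕ) : Set Suz := C '' {c | c ∈ lns.getD k []}

theorem tab1 : ((List.range 45).all fun k => (List.range 5).all fun j =>
    decide ((nx.getD j []).getD k 0 < 45) && (lns.getD k []).all fun c =>
      (lns.getD ((nx.getD j []).getD k 0) []).contains (AA j c)) = true := by decide +kernel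

theorem tab2 : ((List.range 45).all fun k => decide ((wds.getD k ([], 0)).2 < 4) && lA2.all fun c =>
    (lns.getD k []).contains (twa (wds.getD k ([], 0)).1 (gwa (rl (wds.getD k ([], 0)).2) c))) = true := by
  decide +kernel

theorem tab3 : ((List.range 45).all fun k => decide ((lns.getD k []).length ≤ 8)) = true := by decide +kernel

theorem ncard_Ln {k : ℕ} (hk : k < 45) : (Ln k).ncard ≤ 8 := by
  classical
  have h := List.all_eq_true.1 tab3 k (List.mem_range.2 hk)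
  rw [decide_eq_true_eq] at h
  have e : {c | c ∈ lns.getD k []} = ((lns.getD k []).toFinset : Set ℕ) := by
    ext c; simp
  rw [Ln, e]
  refine (Set.ncard_image_le (Finset.finite_toSet _)).trans ?_
  rw [Set.ncard_coe_finset]
  exact (List.toFinset_card_le _).trans h

theorem step1 {j k : ℕ} (hj : j < 5) (hk : k < 45) : ∃ k' < 45, ∀ y ∈ Ln k, gg j * y * (gg j)⁻¹ ∈ Ln k' := by
  have h := List.all_eq_true.1 tab1 k (List.mem_range.2 hk)
  have h := List.all_eq_true.1 h j (List.mem_range.2 hj)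
  rw [Bool.and_eq_true, decide_eq_true_eq] at h
  refine ⟨_, h.1, ?_⟩
  rintro _ ⟨c, hc, rfl⟩
  have h2 := List.all_eq_true.1 h.2 c hc
  rw [List.contains_iff_mem] at h2
  rw [show gg j * C c * (gg j)⁻¹ = C (AA j c) from conj_AA j c]
  exact ⟨_, h2, rfl⟩

theorem step2 {k : ℕ} (hk : k < 45) : ∃ t ∈ T, ∃ i < 4, ∀ a ∈ A2, (t * gw (rl i)) * a * (t * gw (rl i))⁻¹ ∈ Ln k := by
  have h := List.all_eq_true.1 tab2 k (List.mem_range.2 hk)
  rw [Bool.and_eq_true, decide_eq_true_eq] at h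
  refine ⟨tw (wds.getD k ([], 0)).1, tw_mem _, (wds.getD k ([], 0)).2, h.1, ?_⟩
  rintro _ ⟨c, hc, rfl⟩
  have h2 := List.all_eq_true.1 h.2 c hc
  rw [List.contains_iff_mem] at h2
  refine ⟨_, h2, ?_⟩
  rw [← tw_conj, ← gw_conj]
  group

/-- the submonoid of elements permuting the conjugates -/
noncomputable def Mo : Submonoid Suz where
  carrier := {g | ∀ k < 45, ∃ k' < 45, ∀ y ∈ Ln k, g * y * g⁻¹ ∈ Ln k'}
  one_mem' := fun k hk => ⟨k, hk, fun y hy => by simpa using hy⟩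
  mul_mem' := by
    rintro a b ha hb k hk
    obtain ⟨k', hk', h'⟩ := hb k hk
    obtain ⟨k'', hk'', h''⟩ := ha k' hk'
    refine ⟨k'', hk'', fun y hy => ?_⟩
    have e : a * b * y * (a * b)⁻¹ = a * (b * y * b⁻¹) * a⁻¹ := by group
    rw [e]
    exact h'' _ (h' y hy)

theorem C1_le_Mo {g : Suz} (hg : g ∈ C1) : g ∈ Mo := by
  have hfin := Cfsg.Agent.SporadicRecognition.SuzOrder.finiteSuz
  rw [← Cfsg.Agent.KFacts.SuzCent.cl_ga, cl, ← mem_toSubmonoid, closure_toSubmonoid_of_finite] at hg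
  have hle : Submonoid.closure {g | ∃ w ∈ ga, el w = g} ≤ Mo := by
    rw [Submonoid.closure_le]
    rintro _ ⟨w, hw, rfl⟩
    simp only [ga, List.mem_cons, List.not_mem_nil, or_false] at hw
    rcases hw with rfl | rfl | rfl | rfl | rfl
    · exact fun k hk => step1 (j := 0) (by norm_num) hk
    · exact fun k hk => step1 (j := 1) (by norm_num) hk
    · exact fun k hk => step1 (j := 2) (by norm_num) hk
    · exact fun k hk => step1 (j := 3) (by norm_num) hk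
    · exact fun k hk => step1 (j := 4) (by norm_num) hk
  exact hle hg

theorem Ln0 {a : Suz} (ha : a ∈ A2) : a ∈ Ln 0 := by
  obtain ⟨c, hc, rfl⟩ := ha
  have : ∀ c ∈ lA2, c ∈ lns.getD 0 [] := by decide +kernel
  exact ⟨c, this c hc, rfl⟩

theorem ncard_A2 : (A2 : Set Suz).ncard = 8 := by
  have e : (A2 : Set Suz) = C '' (lA2.toFinset : Set ℕ) := by
    ext g
    rw [SetLike.mem_coe, mem_A2, Set.mem_image]
    simp
  have hinj : Set.InjOn C (lA2.toFinset : Set ℕ) := by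
    intro a ha b hb hab
    have ha' : a ∈ lA2 := by simpa using ha
    have hb' : b ∈ lA2 := by simpa using hb
    exact C_inj' (lA2_lt a ha') (lA2_lt b hb') hab
  rw [e, hinj.ncard_image, Set.ncard_coe_finset]
  decide

/-- two elements mapping `A2` into the same small set -/
theorem norm_of_both {g g' : Suz} {X : Set Suz} (hX : X.ncard ≤ 8) (h : ∀ a ∈ A2, g * a * g⁻¹ ∈ X)
    (h' : ∀ a ∈ A2, g' * a * g'⁻¹ ∈ X) : ∀ a ∈ A2, (g'⁻¹ * g) * a * (g'⁻¹ * g)⁻¹ ∈ A2 := by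
  have hfin := Cfsg.Agent.SporadicRecognition.SuzOrder.finiteSuz
  have key : ∀ x : Suz, (∀ a ∈ A2, x * a * x⁻¹ ∈ X) → (fun a => x * a * x⁻¹) '' (A2 : Set Suz) = X := by
    intro x hx
    apply Set.eq_of_subset_of_ncard_le
    · rintro _ ⟨a, ha, rfl⟩
      exact hx a ha
    · have hinj : Function.Injective (fun a => x * a * x⁻¹) := (MulAut.conj x).injective
      rw [Set.ncard_image_of_injective _ hinj, ncard_A2]
      exact hX
    · exact Set.toFinite _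
  intro a ha
  have h1 : g * a * g⁻¹ ∈ (fun a => g' * a * g'⁻¹) '' (A2 : Set Suz) := by
    rw [key g' h']; exact h a ha
  obtain ⟨b, hb, hbe⟩ := h1
  have e : (g'⁻¹ * g) * a * (g'⁻¹ * g)⁻¹ = g'⁻¹ * (g * a * g⁻¹) * g' := by group
  have e2 : g'⁻¹ * (g' * b * g'⁻¹) * g' = b := by group
  rw [e, ← hbe]
  simp only
  rw [e2]
  exact hb

/-- **the double cosets** -/
theorem cosets {g : Suz} (hg : g ∈ C1) : ∃ t ∈ T, ∃ i < 4, ∃ p ∈ C1, (∀ a ∈ A2, p * a * p⁻¹ ∈ A2) ∧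
    g = t * gw (rl i) * p := by
  obtain ⟨k, hk, h⟩ := C1_le_Mo hg 0 (by norm_num)
  obtain ⟨t, ht, i, hi, h'⟩ := step2 hk
  refine ⟨t, ht, i, hi, (t * gw (rl i))⁻¹ * g, ?_, ?_, by group⟩
  · exact C1.mul_mem (C1.inv_mem (C1.mul_mem (mem_C1.2 (T_comm ht)) (gw_mem _))) hg
  · exact norm_of_both (ncard_Ln hk) (fun a ha => h a (Ln0 ha)) h'

/-! ### the certificates -/

theorem h2_sq : el h2 * el h2 = 1 := by
  have := pow_one_of (w := h2) 2 (by decide +kernel)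
  rwa [pow_two] at this

theorem d_sq : el [.d] * el [.d] = 1 := by
  have := pow_one_of (w := [.d]) 2 (by decide +kernel)
  rwa [pow_two] at this

theorem gw1 : gw (rl 1) = el [.d] := mul_one _

theorem gw2 : gw (rl 2) = el h2 * el [.d] := by
  show el h2 * (el [.d] * 1) = _
  rw [mul_one]

theorem gw3 : gw (rl 3) = el [.d] * (el h2 * el [.d]) := by
  show el [.d] * (el h2 * (el [.d] * 1)) = _
  rw [mul_one]

theorem gw1' : (gw (rl 1))⁻¹ = el [.d] := by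
  rw [gw1]; exact inv_eq_of_mul_eq_one_right d_sq

theorem gw2' : (gw (rl 2))⁻¹ = el [.d] * el h2 := by
  rw [gw2, mul_inv_rev, inv_eq_of_mul_eq_one_right d_sq, inv_eq_of_mul_eq_one_right h2_sq]

theorem gw3' : (gw (rl 3))⁻¹ = el [.d] * el h2 * el [.d] := by
  rw [gw3, mul_inv_rev, mul_inv_rev, inv_eq_of_mul_eq_one_right d_sq, inv_eq_of_mul_eq_one_right h2_sq]

theorem r_d : Rep (el [.d]) (wd [.d]) := Rep.el _
theorem r_h2 : Rep (el h2) (wd h2) := Rep.el _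

theorem cert1 : w * (s4 * (el [.d] * s3 * el [.d]) * s3 * s4 * (el [.d] * (s2 * s4 * s3 * s2) * el [.d]) *
    qp [some .k4]) = 1 :=
  eq_of_reps (r_w.mul ((((((conv r_s4).mul ((r_d.mul (conv r_s3)).mul r_d)).mul (conv r_s3)).mul (conv r_s4)).mul
    ((r_d.mul ((((conv r_s2).mul (conv r_s4)).mul (conv r_s3)).mul (conv r_s2))).mul r_d)).mul (rep_qp _))) Rep.one
    (by decide +kernel)

theorem cert2 : w = s3 * s4 * (el h2 * el [.d] * s4 * (el [.d] * el h2)) * s3 *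
    (el h2 * el [.d] * (s2 * s4 * s3 * s2) * (el [.d] * el h2)) * s3 * qp [some .k1, some .k2, some .k3, some .k4] :=
  eq_of_reps r_w (((((((conv r_s3).mul (conv r_s4)).mul (((r_h2.mul r_d).mul (conv r_s4)).mul (r_d.mul r_h2))).mul
    (conv r_s3)).mul (((r_h2.mul r_d).mul ((((conv r_s2).mul (conv r_s4)).mul (conv r_s3)).mul (conv r_s2))).mul
      (r_d.mul r_h2))).mul (conv r_s3)).mul (rep_qp _)) (by decide +kernel)

theorem cert3 : w * (s3 * (el [.d] * (el h2 * el [.d]) * s4 * (el [.d] * el h2 * el [.d])) * s3 *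
    (el [.d] * (el h2 * el [.d]) * s4 * (el [.d] * el h2 * el [.d])) *
    (el [.d] * (el h2 * el [.d]) * (s2 * s3 * s2) * (el [.d] * el h2 * el [.d])) * s3) = 1 :=
  eq_of_reps (r_w.mul ((((((conv r_s3).mul (((r_d.mul (r_h2.mul r_d)).mul (conv r_s4)).mul ((r_d.mul r_h2).mul r_d))).mul
    (conv r_s3)).mul (((r_d.mul (r_h2.mul r_d)).mul (conv r_s4)).mul ((r_d.mul r_h2).mul r_d))).mul
    (((r_d.mul (r_h2.mul r_d)).mul (((conv r_s2).mul (conv r_s3)).mul (conv r_s2))).mul ((r_d.mul r_h2).mul r_d))).mul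
    (conv r_s3))) Rep.one (by decide +kernel)

/-- the elements of `C1` acting trivially on `A2` modulo `z0` -/
def Triv (g : Suz) : Prop := g * z0 = z0 * g ∧ ∀ a ∈ A2, g * a * g⁻¹ = a ∨ g * a * g⁻¹ = a * z0

theorem triv_of_act {g : Suz} {l : List ℕ} (h : Act g l)
    (hl : (lA2.all fun c => act BB 6 (img l) c == c || act BB 6 (img l) c == c ^^^ 64) = true) : Triv g := by
  refine ⟨h.comm, ?_⟩
  rintro _ ⟨c, hc, rfl⟩
  have h1 := List.all_eq_true.1 hl c hc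
  rw [Bool.or_eq_true, beq_iff_eq, beq_iff_eq] at h1
  rw [h.conj]
  rcases h1 with h1 | h1
  · left; rw [h1]
  · right; rw [h1, C_xor]

theorem triv_s3 : Triv s3 := triv_of_act act_s3 (by decide +kernel)
theorem triv_s4 : Triv s4 := triv_of_act act_s4 (by decide +kernel)

def l_2432 : List ℕ := (List.range 6).map fun i => act BB 6 (img l_s2) (act BB 6 (img l_s4) (act BB 6 (img l_s3) (img l_s2 i)))
def l_232 : List ℕ := (List.range 6).map fun i => act BB 6 (img l_s2) (act BB 6 (img l_s3) (img l_s2 i))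
def l_243 : List ℕ := (List.range 6).map fun i => act BB 6 (img l_s2) (act BB 6 (img l_s4) (img l_s3 i))
def l_24 : List ℕ := (List.range 6).map fun i => act BB 6 (img l_s2) (img l_s4 i)
def l_23 : List ℕ := (List.range 6).map fun i => act BB 6 (img l_s2) (img l_s3 i)

theorem act_24 : Act (s2 * s4) l_24 := act_s2.mul act_s4 _ (by decide +kernel)
theorem act_243 : Act (s2 * s4 * s3) l_243 := act_24.mul act_s3 _ (by decide +kernel)
theorem act_2432 : Act (s2 * s4 * s3 * s2) l_2432 := act_243.mul act_s2 _ (by decide +kernel)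
theorem act_23 : Act (s2 * s3) l_23 := act_s2.mul act_s3 _ (by decide +kernel)
theorem act_232 : Act (s2 * s3 * s2) l_232 := act_23.mul act_s2 _ (by decide +kernel)

theorem triv_2432 : Triv (s2 * s4 * s3 * s2) := triv_of_act act_2432 (by decide +kernel)
theorem triv_232 : Triv (s2 * s3 * s2) := triv_of_act act_232 (by decide +kernel)

theorem Triv.flag {g : Suz} (h : Triv g) : ∃ s ∈ T, ∃ k : ℕ, g = s * w ^ k := by
  refine of_flag h.1 (fun a ha => ?_) (fun a ha => ?_)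
  · rcases h.2 a (A12 ha) with h1 | h1 <;> rw [h1]
    · exact ha
    · exact A1.mul_mem ha z_A1
  · rcases h.2 a ha with h1 | h1 <;> rw [h1]
    · exact ha
    · exact A2.mul_mem ha (A12 z_A1)

theorem isPGroup_T : IsPGroup 2 T := by
  have hfin := Cfsg.Agent.SporadicRecognition.SuzOrder.finiteSuz
  exact IsPGroup.of_card Cfsg.Agent.Schreier.Suz.card_T

theorem inv_norm {p : Suz} {A : Subgroup Suz} (h : ∀ a ∈ A, p * a * p⁻¹ ∈ A) : ∀ a ∈ A, p⁻¹ * a * p⁻¹⁻¹ ∈ A := by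
  have hfin := Cfsg.Agent.SporadicRecognition.SuzOrder.finiteSuz
  have hle : A.map (MulAut.conj p).toMonoidHom ≤ A := by
    rintro _ ⟨a, ha, rfl⟩
    exact h a ha
  have he : A.map (MulAut.conj p).toMonoidHom = A :=
    eq_of_le_of_card_ge hle (by rw [card_map_of_injective (MulAut.conj p).injective])
  have hn := mem_normalizer_of_map he
  intro a ha
  exact (mem_normalizer_iff.1 (Subgroup.inv_mem _ hn) a).1 ha

/-- the cube trick -/
theorem conj_triv {p : Suz} (hp : p * z0 = z0 * p) (hpA : ∀ a ∈ A2, p * a * p⁻¹ ∈ A2) {y : Suz} (hy : y ∈ T)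
    (ht : Triv y) : p * y * p⁻¹ ∈ T := by
  have hpA' := inv_norm hpA
  have hpz : p⁻¹ * z0 = z0 * p⁻¹ := by
    rw [inv_mul_eq_iff_eq_mul, ← mul_assoc, hp, mul_inv_cancel_right]
  have h1 : Triv (p * y * p⁻¹) := by
    refine ⟨?_, fun a ha => ?_⟩
    · rw [mul_assoc, hpz, ← mul_assoc, mul_assoc p y z0, ht.1, ← mul_assoc, hp, mul_assoc, mul_assoc, mul_assoc]
    · have e : p * y * p⁻¹ * a * (p * y * p⁻¹)⁻¹ = p * (y * (p⁻¹ * a * p⁻¹⁻¹) * y⁻¹) * p⁻¹ := by group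
      rw [e]
      rcases ht.2 _ (hpA' a ha) with h2 | h2 <;> rw [h2]
      · left; group
      · right
        have e2 : p * (p⁻¹ * a * p⁻¹⁻¹ * z0) * p⁻¹ = a * (p * z0) * p⁻¹ := by group
        rw [e2, hp, mul_assoc, mul_inv_cancel_right]
  obtain ⟨s, hs, k, hk⟩ := h1.flag
  obtain ⟨n, hn⟩ := (IsPGroup.iff_orderOf.1 isPGroup_T) ⟨y, hy⟩
  have hyn : y ^ 2 ^ n = 1 := by
    rw [← hn, Subgroup.orderOf_mk, pow_orderOf_eq_one]
  refine mem_of_cube (n := n) ?_ ?_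
  · rw [conj_pow, hyn]; group
  · rw [hk]
    exact cube_mem w3 (fun t ht => w_T ht) hs k

/-- **the overgroups of `T` in the centraliser of `z0`** -/
theorem FB {H : Subgroup Suz} (hT : T ≤ H) (hz : ∀ h ∈ H, h * z0 = z0 * h) (hw : w ∉ H) :
    ∀ h ∈ H, ∀ a ∈ A2, h * a * h⁻¹ ∈ A2 := by
  intro h hh
  obtain ⟨t, ht, i, hi, p, hp, hpA, rfl⟩ := cosets (mem_C1.2 (hz h hh))
  have htA : ∀ a ∈ A2, t * a * t⁻¹ ∈ A2 := (N_T (le_normalizer ht)).2.2
  have hpz := mem_C1.1 hp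
  have hpz' : p⁻¹ * z0 = z0 * p⁻¹ := by
    rw [inv_mul_eq_iff_eq_mul, ← mul_assoc, hpz, mul_inv_cancel_right]
  -- conjugates of `Y`
  have hY : ∀ y ∈ T, Triv y → gw (rl i) * y * (gw (rl i))⁻¹ ∈ H := by
    intro y hy hyt
    have h1 := conj_triv hpz' (inv_norm hpA) hy hyt
    have h2 := H.mul_mem (H.mul_mem hh (hT h1)) (H.inv_mem hh)
    have h3 := H.mul_mem (H.mul_mem (H.inv_mem (hT ht)) h2) (hT ht)
    have e : t⁻¹ * (t * gw (rl i) * p * (p⁻¹ * y * p⁻¹⁻¹) * (t * gw (rl i) * p)⁻¹) * t =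
      gw (rl i) * y * (gw (rl i))⁻¹ := by group
    rwa [e] at h3
  have hs2 := hT Cfsg.Agent.Schreier.Suz.s2_mem
  have hs3 := hT Cfsg.Agent.Schreier.Suz.s3_mem
  have hs4 := hT Cfsg.Agent.Schreier.Suz.s4_mem
  have m2432 : s2 * s4 * s3 * s2 ∈ T :=
    T.mul_mem (T.mul_mem (T.mul_mem Cfsg.Agent.Schreier.Suz.s2_mem Cfsg.Agent.Schreier.Suz.s4_mem)
      Cfsg.Agent.Schreier.Suz.s3_mem) Cfsg.Agent.Schreier.Suz.s2_mem
  have m232 : s2 * s3 * s2 ∈ T :=
    T.mul_mem (T.mul_mem Cfsg.Agent.Schreier.Suz.s2_mem Cfsg.Agent.Schreier.Suz.s3_mem) Cfsg.Agent.Schreier.Suz.s2_mem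
  interval_cases i
  · intro a ha
    have e : t * gw (rl 0) * p * a * (t * gw (rl 0) * p)⁻¹ = t * (p * a * p⁻¹) * t⁻¹ := by
      show t * 1 * p * a * (t * 1 * p)⁻¹ = _
      group
    rw [e]
    exact htA _ (hpA a ha)
  · exfalso
    apply hw
    have h3 := hY s3 Cfsg.Agent.Schreier.Suz.s3_mem triv_s3
    have h4 := hY _ m2432 triv_2432
    rw [gw1', gw1] at h3 h4
    have hq : qp [some .k4] ∈ H := by rw [qp_eq]; exact hT (Q0_le_T (C_mem _))
    have h5 := H.mul_mem (H.mul_mem (H.mul_mem (H.mul_mem (H.mul_mem hs4 h3) hs3) hs4) h4) hq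
    rw [mul_eq_one_iff_eq_inv.1 cert1]
    exact H.inv_mem h5
  · exfalso
    apply hw
    have h3 := hY s4 Cfsg.Agent.Schreier.Suz.s4_mem triv_s4
    have h4 := hY _ m2432 triv_2432
    rw [gw2', gw2] at h3 h4
    have hq : qp [some .k1, some .k2, some .k3, some .k4] ∈ H := by rw [qp_eq]; exact hT (Q0_le_T (C_mem _))
    rw [cert2]
    exact H.mul_mem (H.mul_mem (H.mul_mem (H.mul_mem (H.mul_mem (H.mul_mem hs3 hs4) h3) hs3) h4) hs3) hq
  · exfalso
    apply hw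
    have h3 := hY s4 Cfsg.Agent.Schreier.Suz.s4_mem triv_s4
    have h4 := hY _ m232 triv_232
    rw [gw3', gw3] at h3 h4
    have h5 := H.mul_mem (H.mul_mem (H.mul_mem (H.mul_mem (H.mul_mem hs3 h3) hs3) h3) h4) hs3
    rw [mul_eq_one_iff_eq_inv.1 cert3]
    exact H.inv_mem h5

/-! ### the setup -/

/-- the Sylow 2-subgroup -/
noncomputable def P : Sylow 2 Suz := Cfsg.Agent.Schreier.Suz.T₀

theorem setup : Setup P z0 w A1 A2 V Q0 where
  zc _ hs := T_comm hs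
  wz := act_w.comm
  wN := w_normalizer
  w3 := w3
  zA1 := z_A1
  A12 := A12
  A2V := A2_le_V
  VS := V_le_T
  nA1 _ hs := (N_T (le_normalizer hs)).2.1
  wV _ hv := w_V hv
  NS _ hg := exists_of_mem_B (N_le_B hg)
  B _ h0 h1 h2 := of_flag h0 h1 h2
  QS := Q0_le_T
  nQ _ hg _ hq := normal_R (mem_C1.2 hg) hq
  cov _ hs := cov hs
  FB _ hT hz hw := FB hT hz hw
  EL _ hNT hn h2 hne := EL hNT hn h2 hne

end Cfsg.Agent.H895.Pron.SuzD
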