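import Cfsg.Agent.H895.Pron.SuzD

/-!
# The Sylow 2-subgroup of `Suz` normalises no nontrivial subgroup of odd order (helper895)

* `cent` : a subgroup `D ≤ C(z0)` of odd order centralising a subgroup of index at most 2 of `Q0` is trivial;
* `odd_trivial` : a subgroup of odd order normalised by `T` is trivial;
* `centralizer_eq_bot` : `C(N) = 1` if `T` normalises `N` and no conjugate... (`z0 ∈ N`, `Z(N) = 1`).
-/

set_option autoImplicit false
set_option maxRecDepth 100000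

namespace Cfsg.Agent.H895.Pron.SuzE

open Cfsg.Spor Cfsg.Agent.Lib.PermNet Cfsg.Agent.Lib.PermNetOrbit Cfsg.Agent.SporadicRecognition.SuzPhi
  Cfsg.Agent.SporadicRecognition.SuzBound Cfsg.Agent.SporadicRecognition.SuzOrder
  Cfsg.Agent.SporadicRecognition.SuzNet Cfsg.Agent.Schreier.SuzNetT
  Cfsg.Agent.SuzThree.Basic Cfsg.Agent.SuzThree.CentA Cfsg.Agent.SuzThree.QZero
  Cfsg.Agent.KFacts.Codes Cfsg.Agent.KFacts.Orbits Cfsg.Agent.KFacts.SuzLarge Cfsg.Agent.KFacts.LargeO2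
  Cfsg.Agent.H895.Pron.SuzS Cfsg.Agent.H895.Pron.SuzB Cfsg.Agent.H895.Pron.SuzC Cfsg.Agent.H895.Pron.SuzD Subgroup

open Cfsg.Agent.KFacts.SuzR hiding s1 s2

open Cfsg.Agent.Schreier.SuzT (s1 s2 s3 s4 x4 x5 x6 x7 x8 x9 x10 x11 x12 r_s2 r_x5 r_x6 r_x8 r_x11 r_x12)
open Cfsg.Agent.Schreier.Suz (T)

/-- the conjugating element -/
def uw : List Suz.Gen := [.b, .f, .a, .b, .a, .b]
noncomputable def u : Suz := el uw
theorem r_u : Rep u (wd uw) := Rep.el _

theorem u_z : u * z0 = qp [some .k4] * u :=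
  eq_of_reps (r_u.mul rep_z) ((rep_qp _).mul r_u) (by decide +kernel)

theorem u_1 : u * qp [some .k1] = x8 * x11 * x12 * u :=
  eq_of_reps (r_u.mul (rep_qp _)) ((((conv r_x8).mul (conv r_x11)).mul (conv r_x12)).mul r_u) (by decide +kernel)

theorem u_2 : u * qp [some .k2] = s2 * x11 * x12 * u :=
  eq_of_reps (r_u.mul (rep_qp _)) ((((conv r_s2).mul (conv r_x11)).mul (conv r_x12)).mul r_u) (by decide +kernel)

theorem u_4 : u * qp [some .k3] = s2 * x5 * x11 * x12 * u :=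
  eq_of_reps (r_u.mul (rep_qp _)) (((((conv r_s2).mul (conv r_x5)).mul (conv r_x11)).mul (conv r_x12)).mul r_u)
    (by decide +kernel)

theorem u_8 : u * qp [some .k4] = x11 * u :=
  eq_of_reps (r_u.mul (rep_qp _)) ((conv r_x11).mul r_u) (by decide +kernel)

theorem u_32 : u * qp [some .k6] = s2 * x5 * x6 * x8 * x11 * x12 * u :=
  eq_of_reps (r_u.mul (rep_qp _)) (((((((conv r_s2).mul (conv r_x5)).mul (conv r_x6)).mul (conv r_x8)).mul
    (conv r_x11)).mul (conv r_x12)).mul r_u) (by decide +kernel)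

/-- the subgroup of index 2 of `Q0` -/
noncomputable def R : Subgroup Suz := Q0 ⊓ T.comap (MulAut.conj u).toMonoidHom

theorem mem_R {q : Suz} : q ∈ R ↔ q ∈ Q0 ∧ u * q * u⁻¹ ∈ T := Iff.rfl

open Cfsg.Agent.Schreier.Suz in
theorem gen_R {i : ℕ} (hi : i < 6) (h4 : i ≠ 4) : xx i ∈ R := by
  have key : ∀ (l : List (Option Qx)) (t : Suz), lc l = 2 ^ i → t ∈ T → u * qp l = t * u → xx i ∈ R := by
    intro l t hl ht h
    rw [← x_eq hi, ← hl, ← qp_eq]
    refine mem_R.2 ⟨by rw [qp_eq]; exact C_mem _, ?_⟩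
    rw [h, mul_inv_cancel_right]
    exact ht
  interval_cases i
  · exact key [some .k1] _ (by decide +kernel) (mul_mem (mul_mem x8_mem x11_mem) x12_mem) u_1
  · exact key [some .k2] _ (by decide +kernel) (mul_mem (mul_mem s2_mem x11_mem) x12_mem) u_2
  · exact key [some .k3] _ (by decide +kernel) (mul_mem (mul_mem (mul_mem s2_mem x5_mem) x11_mem) x12_mem) u_4
  · exact key [some .k4] _ (by decide +kernel) x11_mem u_8
  · exact absurd rfl h4
  · exact key [some .k6] _ (by decide +kernel)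
      (mul_mem (mul_mem (mul_mem (mul_mem (mul_mem s2_mem x5_mem) x6_mem) x8_mem) x11_mem) x12_mem) u_32

theorem z_R : z0 ∈ R := by
  refine mem_R.2 ⟨z_mem, ?_⟩
  rw [u_z, mul_inv_cancel_right, qp_eq]
  exact Q0_le_T (C_mem _)

theorem C_mem_R {c : ℕ} (h : c.testBit 4 = false) : C c ∈ R := by
  have hzp : ∀ (x : Suz) (b : Bool), x ∈ R → Cfsg.Agent.LargeExtra.Pres.zp x b ∈ R := by
    intro x b hx
    unfold Cfsg.Agent.LargeExtra.Pres.zp
    split_ifs
    · exact hx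
    · exact R.one_mem
  have hp : ∀ k ≤ 6, Cfsg.Agent.LargeExtra.Pres.prd xx k c ∈ R := by
    intro k
    induction k with
    | zero => intro _; exact R.one_mem
    | succ k ih =>
      intro hk
      refine R.mul_mem (ih (by omega)) ?_
      by_cases h4 : k = 4
      · subst h4
        rw [h]
        exact R.one_mem
      · exact hzp _ _ (gen_R (by omega) h4)
  exact R.mul_mem (hzp _ _ z_R) (hp 6 le_rfl)

theorem testBit_mulc (c d : ℕ) : (mulc BB 6 c d).testBit 4 = (c.testBit 4 ^^ d.testBit 4) := by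
  rw [mulc, Nat.testBit_xor, testBit_flag, Nat.testBit_xor]
  simp

/-- `R` has index at most 2 in `Q0` -/
theorem index_R {q q' : Suz} (hq : q ∈ Q0) (hq' : q' ∈ Q0) (h : q ∉ R) (h' : q' ∉ R) : q⁻¹ * q' ∈ R := by
  obtain ⟨c, hc, rfl⟩ := exists_code hq
  obtain ⟨d, hd, rfl⟩ := exists_code hq'
  have h1 : c.testBit 4 = true := by
    by_contra h2
    exact h (C_mem_R (Bool.not_eq_true _ ▸ h2))
  have h2 : d.testBit 4 = true := by
    by_contra h2
    exact h' (C_mem_R (Bool.not_eq_true _ ▸ h2))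
  have h3 : C c * (C c * (C c * C c)) = 1 := by
    rcases R_sq hq with h4 | h4
    · rw [h4, mul_one, h4]
    · rw [← mul_assoc, h4, z_sq]
  have h4 : (C c)⁻¹ = C (mulc BB 6 c (mulc BB 6 c c)) := by
    rw [← C_mul', ← C_mul']
    exact inv_eq_of_mul_eq_one_right h3
  rw [h4, C_mul']
  apply C_mem_R
  rw [testBit_mulc, testBit_mulc, testBit_mulc, h1, h2]
  rfl

theorem one_of_odd {G : Type*} [Group G] {r : G} {n : ℕ} (hn : Odd n) (h : r ^ n = 1) (h4 : r ^ 4 = 1) : r = 1 := by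
  have h1 : orderOf r ∣ n := orderOf_dvd_of_pow_eq_one h
  have h2 : orderOf r ∣ 4 := orderOf_dvd_of_pow_eq_one h4
  have h3 : Nat.Coprime n 4 := by
    rw [show 4 = 2 ^ 2 by norm_num]
    exact Nat.Coprime.pow_right 2 hn.coprime_two_right
  have h5 : orderOf r ∣ 1 := by
    rw [← h3]
    exact Nat.dvd_gcd h1 h2
  rw [← orderOf_eq_one_iff]
  exact Nat.dvd_one.1 h5

theorem pow_four {q : Suz} (hq : q ∈ Q0) : q ^ 4 = 1 := by
  have e : q ^ 4 = (q * q) * (q * q) := by rw [show 4 = 2 + 2 by norm_num, pow_add, pow_two]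
  rw [e]
  rcases R_sq hq with h | h <;> rw [h]
  · exact mul_one 1
  · exact z_sq

/-- an element of odd order of `C(z0)` centralising `R` is trivial -/
theorem cent {d : Suz} {n : ℕ} (hn : Odd n) (hd : d ^ n = 1) (hdz : d * z0 = z0 * d) (hR : ∀ r ∈ R, d * r = r * d) :
    d = 1 := by
  have hQ : ∀ q ∈ Q0, q * d = d * q := by
    intro q hq
    by_cases hqR : q ∈ R
    · exact (hR q hqR).symm
    have hq' : d * q * d⁻¹ ∈ Q0 := normal_R (mem_C1.2 hdz) hq
    have hq'R : d * q * d⁻¹ ∉ R := by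
      intro h
      apply hqR
      have h1 := hR _ h
      have h2 : d * (d * q * d⁻¹) = d * q := by rw [h1]; group
      have h3 := mul_left_cancel h2
      rwa [h3] at h
    have hr : q⁻¹ * (d * q * d⁻¹) ∈ R := index_R hq hq' hqR hq'R
    obtain ⟨r, hr'⟩ : ∃ r, r = q⁻¹ * (d * q * d⁻¹) := ⟨_, rfl⟩
    rw [← hr'] at hr
    have h1 : d * q * d⁻¹ = q * r := by rw [hr']; group
    have hpow : ∀ k : ℕ, d ^ k * q * (d ^ k)⁻¹ = q * r ^ k := by
      intro k
      induction k with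
      | zero => simp
      | succ k ih =>
        have h2 : ∀ k : ℕ, d * r ^ k * d⁻¹ = r ^ k := by
          intro k
          rw [hR _ (R.pow_mem hr k), mul_inv_cancel_right]
        calc d ^ (k + 1) * q * (d ^ (k + 1))⁻¹ = d * (d ^ k * q * (d ^ k)⁻¹) * d⁻¹ := by rw [pow_succ']; group
          _ = d * (q * r ^ k) * d⁻¹ := by rw [ih]
          _ = (d * q * d⁻¹) * (d * r ^ k * d⁻¹) := by group
          _ = q * r * r ^ k := by rw [h1, h2]
          _ = q * r ^ (k + 1) := by rw [pow_succ', mul_assoc]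
    have h2 := hpow n
    rw [hd] at h2
    have h3 : r ^ n = 1 := by
      have h4 : q * r ^ n = q * 1 := by rw [← h2]; group
      exact mul_left_cancel h4
    have h4 := one_of_odd hn h3 (pow_four hr.1)
    rw [h4, mul_one] at h1
    exact (mul_inv_eq_iff_eq_mul.1 h1).symm
  rcases centralizer_R hQ with h | h
  · exact h
  · exfalso
    rw [h] at hd
    apply z_ne
    refine one_of_odd hn hd ?_
    have e : z0 ^ 4 = (z0 * z0) * (z0 * z0) := by rw [show 4 = 2 + 2 by norm_num, pow_add, pow_two]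
    rw [e, z_sq, mul_one]

/-- an involution acting without fixed points inverts -/
theorem inverts {G : Type*} [Group G] {N : Subgroup G} [Finite N] {t : G} (ht : t * t = 1)
    (hN : ∀ n ∈ N, t * n * t⁻¹ ∈ N) (hc : ∀ n ∈ N, n * t = t * n → n = 1) : ∀ n ∈ N, t * n * t⁻¹ = n⁻¹ := by
  have hinj : Function.Injective (fun n : N => (⟨(n : G)⁻¹ * (t * n * t⁻¹), N.mul_mem (N.inv_mem n.2) (hN n n.2)⟩ : N)) := by
    intro a b hab
    have h1 : (a : G)⁻¹ * (t * a * t⁻¹) = (b : G)⁻¹ * (t * b * t⁻¹) := congrArg Subtype.val hab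
    have h2 : (b : G) * (a : G)⁻¹ = 1 := by
      apply hc _ (N.mul_mem b.2 (N.inv_mem a.2))
      have h3 : (b : G) * (a : G)⁻¹ * (t * a * t⁻¹) = t * b * t⁻¹ := by rw [mul_assoc, h1]; group
      calc (b : G) * (a : G)⁻¹ * t = ((b : G) * (a : G)⁻¹ * (t * a * t⁻¹)) * (t * (a : G)⁻¹) := by group
        _ = t * b * t⁻¹ * (t * (a : G)⁻¹) := by rw [h3]
        _ = t * ((b : G) * (a : G)⁻¹) := by group
    exact Subtype.ext (mul_inv_eq_one.1 h2).symm
  intro n hn
  obtain ⟨m, hm⟩ := Finite.surjective_of_injective hinj ⟨n, hn⟩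
  have h1 : (m : G)⁻¹ * (t * m * t⁻¹) = n := congrArg Subtype.val hm
  have ht' : t⁻¹ = t := inv_eq_of_mul_eq_one_right ht
  rw [← h1]
  calc t * ((m : G)⁻¹ * (t * m * t⁻¹)) * t⁻¹ = t * (m : G)⁻¹ * t * m * (t⁻¹ * t⁻¹) := by group
    _ = t * (m : G)⁻¹ * t * m := by rw [ht', ht, mul_one]
    _ = ((m : G)⁻¹ * (t * m * t⁻¹))⁻¹ := by
      rw [mul_inv_rev, mul_inv_rev, mul_inv_rev, inv_inv, inv_inv, ht']
      group

/-- **(6a)** a subgroup of odd order normalised by `T` is trivial -/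
theorem odd_trivial {N : Subgroup Suz} (hodd : Odd (Nat.card N)) (hT : ∀ t ∈ T, ∀ n ∈ N, t * n * t⁻¹ ∈ N) : N = ⊥ := by
  have hfin := Cfsg.Agent.SporadicRecognition.SuzOrder.finiteSuz
  have hpow : ∀ n ∈ N, n ^ Nat.card N = 1 := by
    intro n hn
    have := pow_card_eq_one' (G := N) (x := ⟨n, hn⟩)
    exact congrArg Subtype.val this
  have hcm : ∀ t ∈ T, ∀ n ∈ N, n * t * n⁻¹ * t⁻¹ ∈ N := by
    intro t ht n hn
    have h := N.mul_mem hn (hT t ht _ (N.inv_mem hn))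
    have e : n * (t * n⁻¹ * t⁻¹) = n * t * n⁻¹ * t⁻¹ := by group
    rwa [e] at h
  -- `C_N(z0) = 1`
  have hz : ∀ n ∈ N, n * z0 = z0 * n → n = 1 := by
    intro n hn hnz
    refine cent hodd (hpow n hn) hnz fun r hr => ?_
    have h1 := hcm r (Q0_le_T hr.1) n hn
    have h2 : n * r * n⁻¹ * r⁻¹ ∈ Q0 := Q0.mul_mem (normal_R (mem_C1.2 hnz) hr.1) (Q0.inv_mem hr.1)
    have h3 := one_of_odd hodd (hpow _ h1) (pow_four h2)
    have h4 := mul_inv_eq_one.1 h3
    exact mul_inv_eq_iff_eq_mul.1 h4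
  -- `C_N(C 8) = 1`
  have hf : ∀ n ∈ N, n * C 8 = C 8 * n → n = 1 := by
    intro n hn hnf
    have hu : u * z0 * u⁻¹ = C 8 := by
      rw [u_z, mul_inv_cancel_right, qp_eq]; congr 1
    have hd : u⁻¹ * n * u = 1 := by
      have hdz : u⁻¹ * n * u * z0 = z0 * (u⁻¹ * n * u) := by
        calc u⁻¹ * n * u * z0 = u⁻¹ * (n * (u * z0 * u⁻¹)) * u := by group
          _ = u⁻¹ * ((u * z0 * u⁻¹) * n) * u := by rw [hu, hnf]
          _ = z0 * (u⁻¹ * n * u) := by group
      refine cent hodd (n := Nat.card N) ?_ hdz fun r hr => ?_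
      · have e : (u⁻¹ * n * u) ^ Nat.card N = u⁻¹ * n ^ Nat.card N * u := by
          have := conj_pow (a := u⁻¹) (b := n) (i := Nat.card N)
          rwa [inv_inv] at this
        rw [e, hpow n hn]; group
      · have h1 := hcm _ hr.2 n hn
        have h2 : u⁻¹ * n * u * r * (u⁻¹ * n * u)⁻¹ * r⁻¹ ∈ Q0 :=
          Q0.mul_mem (normal_R (mem_C1.2 hdz) hr.1) (Q0.inv_mem hr.1)
        have h3 : u⁻¹ * n * u * r * (u⁻¹ * n * u)⁻¹ * r⁻¹ = 1 := by
          have e : n * (u * r * u⁻¹) * n⁻¹ * (u * r * u⁻¹)⁻¹ =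
            u * (u⁻¹ * n * u * r * (u⁻¹ * n * u)⁻¹ * r⁻¹) * u⁻¹ := by group
          have h5 : n * (u * r * u⁻¹) * n⁻¹ * (u * r * u⁻¹)⁻¹ = 1 := by
            refine one_of_odd hodd (hpow _ h1) ?_
            rw [e, conj_pow, pow_four h2]; group
          rw [e] at h5
          have h6 := mul_inv_eq_one.1 h5
          exact mul_eq_left.1 h6
        have h4 := mul_inv_eq_one.1 h3
        exact mul_inv_eq_iff_eq_mul.1 h4
    have : n = u * (u⁻¹ * n * u) * u⁻¹ := by group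
    rw [this, hd]; group
  -- `C_N(C 72) = 1`
  have hfz : ∀ n ∈ N, n * C 72 = C 72 * n → n = 1 := by
    intro n hn hnf
    have hs : s1 * C 8 * s1⁻¹ = C 72 := by
      rw [act_s1.conj 8]; congr 1
    have h1 : s1⁻¹ * n * s1 = 1 := by
      apply hf
      · have := hT _ (T.inv_mem Cfsg.Agent.Schreier.Suz.s1_mem) n hn
        rwa [inv_inv] at this
      · calc s1⁻¹ * n * s1 * C 8 = s1⁻¹ * (n * (s1 * C 8 * s1⁻¹)) * s1 := by group
          _ = s1⁻¹ * ((s1 * C 8 * s1⁻¹) * n) * s1 := by rw [hs, hnf]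
          _ = C 8 * (s1⁻¹ * n * s1) := by group
    have : n = s1 * (s1⁻¹ * n * s1) * s1⁻¹ := by group
    rw [this, h1]; group
  have h8 : C 8 * C 8 = 1 := by
    rw [C_mul', show mulc BB 6 8 8 = 0 by decide +kernel, C_zero']
  have h8T : C 8 ∈ T := Q0_le_T (C_mem 8)
  have hzT : z0 ∈ T := Q0_le_T z_mem
  have i1 := inverts z_sq (hT _ hzT) hz
  have i2 := inverts h8 (hT _ h8T) hf
  rw [eq_bot_iff_forall]
  intro n hn
  apply hfz n hn
  have e : C 72 = C 8 * z0 := by rw [← C_64, C_mul']; congr 1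
  have h1 : C 72 * n * (C 72)⁻¹ = n := by
    calc C 72 * n * (C 72)⁻¹ = C 8 * (z0 * n * z0⁻¹) * (C 8)⁻¹ := by rw [e]; group
      _ = C 8 * n⁻¹ * (C 8)⁻¹ := by rw [i1 n hn]
      _ = n⁻¹⁻¹ := i2 _ (N.inv_mem hn)
      _ = n := inv_inv n
  exact (mul_inv_eq_iff_eq_mul.1 h1).symm

end Cfsg.Agent.H895.Pron.SuzE
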