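import Cfsg.Agent.H895.Pron.SuzE
import Cfsg.Agent.H895.Pron.SuzX5
import Cfsg.Agent.H895.Pron.Frat
import Cfsg.Agent.H940.EngData
import Cfsg.Agent.H503.TwoSuz
import Cfsg.Agent.H245.NotSuz
import Cfsg.Agent.Lib.MinNormal
import Cfsg.Agent.Lib.MinNormalNonabelian
import Cfsg.Agent.H904.SylOne
import Cfsg.Agent.SmallSimple.BurnsideNC

/-!
# Overgroups of the Sylow 2-subgroup of `Suz`: minimal normal subgroups (helper895)

* `exists_elem` : an overgroup `H` of `T` with `w ∉ H` has a nontrivial normal elementary abelian 2-subgroup.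
-/

set_option autoImplicit false
set_option maxRecDepth 100000

namespace Cfsg.Agent.H895.Pron.SuzF

open Cfsg.Spor Cfsg.Agent.SuzThree.CentA Cfsg.Agent.SuzThree.QZero
  Cfsg.Agent.H895.Pron.SuzS Cfsg.Agent.H895.Pron.SuzB Cfsg.Agent.H895.Pron.SuzC Cfsg.Agent.H895.Pron.SuzD
  Cfsg.Agent.H895.Pron.SuzE Subgroup

open Cfsg.Agent.KFacts.SuzR (centralizer_R normal_R z_ne)
open Cfsg.Agent.Schreier.Suz (T)
open Cfsg.Agent.H940.Eng Cfsg.Agent.H940.Eng.D Cfsg.Agent.OrdDiv

theorem fin : Finite Suz := Cfsg.Agent.SporadicRecognition.SuzOrder.finiteSuz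

theorem card_suz : Nat.card Suz = n_suz := Cfsg.Agent.SporadicRecognition.SuzOrder.card_Suz

/-- a subgroup of even order normalised by `T` contains `z0` -/
theorem z_mem_of_even {M : Subgroup Suz} (hT : ∀ t ∈ T, ∀ m ∈ M, t * m * t⁻¹ ∈ M) (h2 : 2 ∣ Nat.card M) : z0 ∈ M := by
  have hfin := fin
  have hf2 : Fact (Nat.Prime 2) := ⟨Nat.prime_two⟩
  let _ : MulAction T M :=
    { smul := fun t m => ⟨t * m * (t : Suz)⁻¹, hT t t.2 m m.2⟩
      one_smul := fun m => Subtype.ext (by
        show ((1 : T) : Suz) * m * ((1 : T) : Suz)⁻¹ = m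
        rw [OneMemClass.coe_one]; group)
      mul_smul := fun a b m => Subtype.ext (by
        show ((a * b : T) : Suz) * m * ((a * b : T) : Suz)⁻¹ = a * (b * m * (b : Suz)⁻¹) * (a : Suz)⁻¹
        rw [Subgroup.coe_mul]; group) }
  have h1 := isPGroup_T.card_modEq_card_fixedPoints M
  have h3 : 2 ∣ Nat.card (MulAction.fixedPoints T M) := by
    rw [← Nat.modEq_zero_iff_dvd] at h2 ⊢
    exact h1.symm.trans h2
  have hone : (1 : M) ∈ MulAction.fixedPoints T M := fun t => Subtype.ext (by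
    show (t : Suz) * ((1 : M) : Suz) * (t : Suz)⁻¹ = ((1 : M) : Suz)
    rw [OneMemClass.coe_one]; group)
  have hnt : 1 < Nat.card (MulAction.fixedPoints T M) := by
    have : Nonempty (MulAction.fixedPoints T M) := ⟨⟨1, hone⟩⟩
    have hpos : 0 < Nat.card (MulAction.fixedPoints T M) := Nat.card_pos
    have := Nat.le_of_dvd hpos h3
    omega
  rw [Finite.one_lt_card_iff_nontrivial] at hnt
  obtain ⟨⟨m, hm⟩, hm1⟩ := exists_ne (⟨1, hone⟩ : MulAction.fixedPoints T M)
  have hm1' : (m : Suz) ≠ 1 := fun h => hm1 (Subtype.ext (Subtype.ext h))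
  have hc : ∀ q ∈ Q0, q * (m : Suz) = m * q := by
    intro q hq
    have h4 := congrArg Subtype.val (hm ⟨q, Q0_le_T hq⟩)
    exact mul_inv_eq_iff_eq_mul.1 h4
  rcases centralizer_R hc with h | h
  · exact absurd h hm1'
  · rw [← h]; exact m.2

/-- the centraliser of a `T`-invariant subgroup containing `z0` with trivial centre is trivial -/
theorem centralizer_eq_bot {N : Subgroup Suz} (hT : ∀ t ∈ T, ∀ n ∈ N, t * n * t⁻¹ ∈ N) (hz : z0 ∈ N)
    (hZ : ∀ x ∈ N, (∀ n ∈ N, x * n = n * x) → x = 1) : centralizer (N : Set Suz) = ⊥ := by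
  have hfin := fin
  have hzC : z0 ∉ centralizer (N : Set Suz) := by
    intro h
    exact z_ne (hZ z0 hz fun n hn => (mem_centralizer_iff.1 h n hn).symm)
  have hTC : ∀ t ∈ T, ∀ c ∈ centralizer (N : Set Suz), t * c * t⁻¹ ∈ centralizer (N : Set Suz) := by
    intro t ht c hc
    rw [mem_centralizer_iff] at hc ⊢
    intro n hn
    have h1 := hT _ (T.inv_mem ht) n hn
    rw [inv_inv] at h1
    have h2 := hc _ h1
    calc n * (t * c * t⁻¹) = t * ((t⁻¹ * n * t) * c) * t⁻¹ := by group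
      _ = t * (c * (t⁻¹ * n * t)) * t⁻¹ := by rw [h2]
      _ = t * c * t⁻¹ * n := by group
  have hCz : ∀ c ∈ centralizer (N : Set Suz), c * z0 = z0 * c := fun c hc => (mem_centralizer_iff.1 hc z0 hz).symm
  -- `C(N) ∩ Q0 = 1`
  have hCQ : ∀ c ∈ centralizer (N : Set Suz), c ∈ Q0 → c = 1 := by
    intro c hc hcQ
    by_contra hc1
    apply hzC
    have hle : centralizer (N : Set Suz) ⊓ Q0 ≤ centralizer (N : Set Suz) := inf_le_left
    apply hle
    apply z_mem_of_even
    · intro t ht x hx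
      exact ⟨hTC t ht x hx.1, normal_R (mem_C1.2 (T_comm ht)) hx.2⟩
    · have hp : IsPGroup 2 ↥(centralizer (N : Set Suz) ⊓ Q0) :=
        (isPGroup_T.to_le (inf_le_right.trans Q0_le_T))
      have hnt : Nontrivial ↥(centralizer (N : Set Suz) ⊓ Q0) :=
        ⟨⟨⟨c, hc, hcQ⟩, 1, fun h => hc1 (congrArg Subtype.val h)⟩⟩
      have hf2 : Fact (Nat.Prime 2) := ⟨Nat.prime_two⟩
      obtain ⟨k, hk0, hk⟩ := hp.nontrivial_iff_card.1 hnt
      rw [hk]
      exact dvd_pow_self 2 (by omega)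
  rw [eq_bot_iff_forall]
  intro c hc
  have hQ : ∀ q ∈ Q0, q * c = c * q := by
    intro q hq
    have h1 : c * q * c⁻¹ * q⁻¹ ∈ Q0 := Q0.mul_mem (normal_R (mem_C1.2 (hCz c hc)) hq) (Q0.inv_mem hq)
    have h2 : c * q * c⁻¹ * q⁻¹ ∈ centralizer (N : Set Suz) := by
      have h3 := Subgroup.mul_mem _ hc (hTC q (Q0_le_T hq) _ (Subgroup.inv_mem _ hc))
      have e : c * (q * c⁻¹ * q⁻¹) = c * q * c⁻¹ * q⁻¹ := by group
      rwa [e] at h3
    have h3 := mul_inv_eq_one.1 (hCQ _ h2 h1)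
    exact (mul_inv_eq_iff_eq_mul.1 h3).symm
  rcases centralizer_R hQ with h | h
  · exact h
  · rw [h] at hc
    exact absurd hc hzC

/-! ### numbers -/

theorem two_pow_dvd {H : Subgroup Suz} (hT : T ≤ H) : 2 ^ 13 ∣ Nat.card H := by
  rw [← Cfsg.Agent.Schreier.Suz.card_T]
  exact card_dvd_of_le hT

/-- the Frattini argument at a prime which divides `|Suz|` exactly once -/
theorem frat {H N : Subgroup Suz} (hT : T ≤ H) (hNH : N ≤ H) (hn : ∀ h ∈ H, ∀ n ∈ N, h * n * h⁻¹ ∈ N) {r b : ℕ}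
    (hr : r.Prime) (h2 : ¬ r ^ 2 ∣ n_suz) (hrN : r ∣ Nat.card N)
    (hb : ∀ R : Subgroup Suz, Nat.card R = r → Nat.card (normalizer (R : Set Suz)) ∣ b) :
    ∃ ν, ν ∣ b ∧ r ∣ ν ∧ ν ∣ Nat.card N ∧ Nat.card N / ν % r = 1 ∧ 2 ^ 13 * ν ∣ Nat.card N * b := by
  have hfin := fin
  have hf : Fact r.Prime := ⟨hr⟩
  obtain ⟨R, hRN, hR, h3, h4⟩ := Frat.main hNH hn r
  have hfac : (Nat.card N).factorization r = 1 := by
    have h5 : 1 ≤ (Nat.card N).factorization r :=
      (Nat.Prime.dvd_iff_one_le_factorization hr Nat.card_pos.ne').1 hrN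
    have h6 : ¬ 2 ≤ (Nat.card N).factorization r := by
      intro h
      apply h2
      rw [← card_suz]
      exact ((Nat.Prime.pow_dvd_iff_le_factorization hr Nat.card_pos.ne').2 h).trans (card_subgroup_dvd_card N)
    omega
  rw [hfac, pow_one] at hR
  have hνb : Nat.card (N ⊓ normalizer (R : Set Suz) : Subgroup Suz) ∣ b := (card_dvd_of_le inf_le_right).trans (hb R hR)
  have hmb : Nat.card (H ⊓ normalizer (R : Set Suz) : Subgroup Suz) ∣ b := (card_dvd_of_le inf_le_right).trans (hb R hR)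
  refine ⟨_, hνb, ?_, card_dvd_of_le inf_le_left, ?_, ?_⟩
  · rw [← hR]
    exact card_dvd_of_le (le_inf hRN le_normalizer)
  · have h5 : Nat.card N / Nat.card (N ⊓ normalizer (R : Set Suz) : Subgroup Suz) % r = 1 % r := h4
    rw [h5, Nat.mod_eq_of_lt hr.one_lt]
  · calc 2 ^ 13 * Nat.card (N ⊓ normalizer (R : Set Suz) : Subgroup Suz) ∣
          Nat.card H * Nat.card (N ⊓ normalizer (R : Set Suz) : Subgroup Suz) := Nat.mul_dvd_mul_right (two_pow_dvd hT) _
      _ = Nat.card N * Nat.card (H ⊓ normalizer (R : Set Suz) : Subgroup Suz) := h3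
      _ ∣ Nat.card N * b := Nat.mul_dvd_mul_left _ hmb

theorem b7 (R : Subgroup Suz) (hR : Nat.card R = 7) : Nat.card (normalizer (R : Set Suz)) ∣ 504 := by
  have hfin := fin
  exact (H503.TwoSuz.data_seven (T := Suz) ⟨MulEquiv.refl _⟩ R hR).2

theorem b11 (R : Subgroup Suz) (hR : Nat.card R = 11) : Nat.card (normalizer (R : Set Suz)) ∣ 26730 := by
  have hfin := fin
  exact (H503.TwoSuz.data_eleven (T := Suz) ⟨MulEquiv.refl _⟩ R hR).2

theorem b13 (R : Subgroup Suz) (hR : Nat.card R = 13) : Nat.card (normalizer (R : Set Suz)) ∣ 2106 := by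
  have hfin := fin
  exact (H503.TwoSuz.data_thirteen (T := Suz) ⟨MulEquiv.refl _⟩ R hR).2

/-- the divisors -/
def dvs (b : ℕ) : List ℕ := (List.range (b + 1)).filter fun d => Nat.blt 0 d && b % d == 0

theorem mem_dvs {b d : ℕ} (hb : 0 < b) (h : d ∣ b) : d ∈ dvs b := by
  have h1 := Nat.pos_of_dvd_of_pos h hb
  rw [dvs, List.mem_filter, List.mem_range]
  refine ⟨Nat.lt_succ_of_le (Nat.le_of_dvd hb h), ?_⟩
  rw [Bool.and_eq_true]
  refine ⟨by rw [Nat.blt_eq]; exact h1, ?_⟩
  rw [beq_iff_eq]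
  exact Nat.mod_eq_zero_of_dvd h

/-- the test -/
def tst (r b n : ℕ) : Bool :=
  (n % r != 0) || (dvs b).any fun ν => ν % r == 0 && n % ν == 0 && n / ν % r == 1 && (n * b) % (2 ^ 13 * ν) == 0

theorem tst_true {H N : Subgroup Suz} (hT : T ≤ H) (hNH : N ≤ H) (hn : ∀ h ∈ H, ∀ n ∈ N, h * n * h⁻¹ ∈ N) {r b : ℕ}
    (hr : r.Prime) (h2 : ¬ r ^ 2 ∣ n_suz) (hb0 : 0 < b)
    (hb : ∀ R : Subgroup Suz, Nat.card R = r → Nat.card (normalizer (R : Set Suz)) ∣ b) :
    tst r b (Nat.card N) = true := by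
  rw [tst, Bool.or_eq_true]
  by_cases hrN : r ∣ Nat.card N
  · right
    obtain ⟨ν, h3, h4, h5, h6, h7⟩ := frat hT hNH hn hr h2 hrN hb
    rw [List.any_eq_true]
    refine ⟨ν, mem_dvs hb0 h3, ?_⟩
    simp only [Bool.and_eq_true, beq_iff_eq]
    exact ⟨⟨⟨Nat.mod_eq_zero_of_dvd h4, Nat.mod_eq_zero_of_dvd h5⟩, h6⟩, Nat.mod_eq_zero_of_dvd h7⟩
  · left
    rw [bne_iff_ne]
    intro h
    exact hrN (Nat.dvd_of_mod_eq_zero h)

/-- the orders which survive -/
theorem chk_ords : (o_suz.all fun n => (n == 60 || n == 360 || n == 25920 || n == 174182400 || n == n_suz) ||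
    !(tst 7 504 n && tst 11 26730 n && tst 13 2106 n)) = true := by decide +kernel

theorem chk_sq : (o_suz.all fun n => (n == 60 || n == 360) || n_suz % n ^ 2 != 0) = true := by decide +kernel

theorem chk_cube : (o_suz.all fun n => n_suz % n ^ 3 != 0) = true := by decide +kernel

/-! ### the prime 5 -/

theorem fac_two {n m a b c : ℕ} (hn : n ≠ 0) (hm : m ≠ 0) (h : 2 ^ c ∣ n * m) (ha : ¬ 2 ^ (a + 1) ∣ n)
    (hb : ¬ 2 ^ (b + 1) ∣ m) : c ≤ a + b := by
  have h1 := (Nat.Prime.pow_dvd_iff_le_factorization Nat.prime_two (Nat.mul_ne_zero hn hm)).1 h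
  rw [Nat.factorization_mul hn hm, Finsupp.add_apply] at h1
  have h2 : ¬ a + 1 ≤ n.factorization 2 := fun h => ha ((Nat.Prime.pow_dvd_iff_le_factorization Nat.prime_two hn).2 h)
  have h3 : ¬ b + 1 ≤ m.factorization 2 := fun h => hb ((Nat.Prime.pow_dvd_iff_le_factorization Nat.prime_two hm).2 h)
  omega

theorem no_25 {H N : Subgroup Suz} (hT : T ≤ H) (hNH : N ≤ H) (hn : ∀ h ∈ H, ∀ n ∈ N, h * n * h⁻¹ ∈ N)
    (h25 : (Nat.card N).factorization 5 = 2) (h7 : ¬ 2 ^ 7 ∣ Nat.card N) : False := by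
  have hfin := fin
  have hf : Fact (Nat.Prime 5) := ⟨by norm_num⟩
  obtain ⟨R, hRN, hR, h3, h4⟩ := Frat.main hNH hn 5
  rw [h25] at hR
  have h5 : ¬ 2 ^ 6 ∣ Nat.card (normalizer (R : Set Suz)) := by
    intro h
    have hc : ¬ 2 ∣ Nat.card (centralizer (R : Set Suz)) := SuzX5.not_25 (by rw [hR]; norm_num)
    have h6 := (Cfsg.Agent.SmallSimple.BurnsideNC.relIndex_dvd_card_mulAut R).trans
      (Cfsg.Agent.SmallSimple.BurnsideNC.card_mulAut_dvd_of_card_eq_sq hR)
    have h7 := Cfsg.Agent.SmallSimple.BurnsideNC.card_normalizer_eq R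
    rw [h7] at h
    have h8 : 2 ^ 6 ∣ Nat.card (centralizer (R : Set Suz)) * 480 := h.trans (Nat.mul_dvd_mul_left _ h6)
    have h9 := fac_two (a := 0) (b := 5) Nat.card_pos.ne' (by norm_num) h8 hc (by norm_num)
    omega
  have h6 : 2 ^ 13 ∣ Nat.card N * Nat.card (H ⊓ normalizer (R : Set Suz) : Subgroup Suz) := by
    rw [← h3]
    exact (two_pow_dvd hT).mul_right _
  have h8 := fac_two (a := 6) (b := 5) Nat.card_pos.ne' Nat.card_pos.ne' h6 h7
    (fun h => h5 (h.trans (card_dvd_of_le inf_le_right)))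
  omega

theorem no_5 {H N : Subgroup Suz} (hT : T ≤ H) (hNH : N ≤ H) (hn : ∀ h ∈ H, ∀ n ∈ N, h * n * h⁻¹ ∈ N)
    (hs : IsSimpleGroup N) (hne : Nat.card N ≠ 5) (h1 : (Nat.card N).factorization 5 = 1) (h7 : ¬ 2 ^ 7 ∣ Nat.card N) :
    False := by
  have hfin := fin
  have hf : Fact (Nat.Prime 5) := ⟨by norm_num⟩
  obtain ⟨R, hRN, hR, h3, h4⟩ := Frat.main hNH hn 5
  rw [h1, pow_one] at hR
  -- the normaliser in `Suz`
  have h5 : ¬ 2 ^ 8 ∣ Nat.card (normalizer (R : Set Suz)) := by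
    intro h
    have hcyc : IsCyclic R := isCyclic_of_prime_card hR
    obtain ⟨x, hx⟩ := hcyc.exists_generator
    have hxR : zpowers (x : Suz) = R := by
      ext y
      constructor
      · rintro ⟨k, rfl⟩
        exact R.zpow_mem x.2 k
      · intro hy
        obtain ⟨k, hk⟩ := hx ⟨y, hy⟩
        exact ⟨k, congrArg Subtype.val hk⟩
    have hxo : orderOf (x : Suz) = 5 := by rw [← Nat.card_zpowers, hxR, hR]
    obtain ⟨e, he, hec⟩ := H904.SylOne.card_nc hR
    have hc : ¬ 2 ^ 6 ∣ Nat.card (centralizer (R : Set Suz)) := by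
      rw [← hxR, H904.SylOne.centralizer_zpowers_eq]
      exact SuzX5.not_64 hxo
    rw [hec] at h
    have h8 : 2 ^ 8 ∣ Nat.card (centralizer (R : Set Suz)) * 4 := h.trans (Nat.mul_dvd_mul_left _ he)
    have h9 := fac_two (a := 5) (b := 2) Nat.card_pos.ne' (by norm_num) h8 hc (by norm_num)
    omega
  -- the normaliser in `N` has even order
  have h6 : 2 ∣ Nat.card (N ⊓ normalizer (R : Set Suz) : Subgroup Suz) := by
    have hRe : (R.subgroupOf N).map N.subtype = R := by
      rw [subgroupOf_map_subtype, inf_eq_left.2 hRN]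
    have hRc : Nat.card (R.subgroupOf N) = 5 := by
      rw [← card_map_of_injective (f := N.subtype) (subtype_injective N), hRe, hR]
    let P : Sylow 5 N := Sylow.ofCard (R.subgroupOf N) (by rw [h1, pow_one]; exact hRc)
    obtain ⟨e, he, he1, -, hec, -, -⟩ :=
      Cfsg.Agent.SmallSimple.BurnsideNC.exists_automizer_of_card_eq_prime hne P hRc
    have h8 : Nat.card (N ⊓ normalizer (R : Set Suz) : Subgroup Suz) = Nat.card (normalizer (P : Set N)) := by
      have h9 := Frat.card_inf_eq (N := N) (P := R.subgroupOf N)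
      rw [hRe] at h9
      exact h9
    rw [h8, hec]
    apply Dvd.dvd.mul_left
    have h10 : e ∣ 4 := he
    have h11 : e ≤ 4 := Nat.le_of_dvd (by norm_num) h10
    interval_cases e
    · norm_num at h10
    · exact absurd rfl he1
    · norm_num
    · norm_num at h10
    · norm_num
  have h8 : 2 ^ 14 ∣ Nat.card N * Nat.card (H ⊓ normalizer (R : Set Suz) : Subgroup Suz) := by
    rw [← h3, show 2 ^ 14 = 2 ^ 13 * 2 by norm_num]
    exact Nat.mul_dvd_mul (two_pow_dvd hT) h6
  have h9 := fac_two (a := 6) (b := 7) Nat.card_pos.ne' Nat.card_pos.ne' h8 h7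
    (fun h => h5 (h.trans (card_dvd_of_le inf_le_right)))
  omega

/-! ### the minimal normal subgroup is not `L ^ j`, `L` non-abelian simple -/

theorem center_trivial {N : Subgroup Suz} {L : Type} [Group L] [IsSimpleGroup L] (hna : ¬ ∀ a b : L, a * b = b * a)
    {j : ℕ} (e : N ≃* (Fin j → L)) : ∀ x ∈ N, (∀ n ∈ N, x * n = n * x) → x = 1 := by
  intro x hx hxc
  have hcen : center L = ⊥ := by
    rcases (inferInstance : (center L).Normal).eq_bot_or_eq_top with h | h
    · exact h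
    · exfalso
      apply hna
      intro a b
      have : b ∈ center L := by rw [h]; exact mem_top b
      exact (mem_center_iff.1 this a)
  have h1 : e ⟨x, hx⟩ = 1 := by
    funext i
    have h2 : e ⟨x, hx⟩ i ∈ center L := by
      rw [mem_center_iff]
      intro g
      have h3 := hxc _ (e.symm (fun _ => g)).2
      have h4 : (⟨x, hx⟩ : N) * e.symm (fun _ => g) = e.symm (fun _ => g) * ⟨x, hx⟩ := Subtype.ext h3
      have h5 := congrArg e h4
      rw [map_mul, map_mul, MulEquiv.apply_symm_apply] at h5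
      exact (congrFun h5 i).symm
    rw [hcen, mem_bot] at h2
    exact h2
  have h2 : (⟨x, hx⟩ : N) = 1 := by
    apply e.injective
    rw [h1, map_one]
  exact congrArg Subtype.val h2

theorem factorization_five {n k : ℕ} (h : 5 ^ k ∣ n) (h' : ¬ 5 ^ (k + 1) ∣ n) : n.factorization 5 = k := by
  have hn : n ≠ 0 := by
    rintro rfl
    exact h' (dvd_zero _)
  have hp : Nat.Prime 5 := by norm_num
  have h1 := (Nat.Prime.pow_dvd_iff_le_factorization hp hn).1 h
  have h2 : ¬ k + 1 ≤ n.factorization 5 := fun h => h' ((Nat.Prime.pow_dvd_iff_le_factorization hp hn).2 h)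
  omega

theorem no_nonabelian (B : Base) {H N : Subgroup Suz} (hT : T ≤ H) (hw : w ∉ H) (hNH : N ≤ H)
    (hn : ∀ h ∈ H, ∀ n ∈ N, h * n * h⁻¹ ∈ N) {L : Type} [Group L] [Finite L] [hL : IsSimpleGroup L]
    (hna : ¬ ∀ a b : L, a * b = b * a) {j : ℕ} (hj : 0 < j) (e : N ≃* (Fin j → L)) : False := by
  have hfin := fin
  have hc : Nat.card N = Nat.card L ^ j := by
    rw [Nat.card_congr e.toEquiv, Nat.card_pi]
    simp
  have hNd : Nat.card N ∣ n_suz := by
    rw [← card_suz]
    exact card_subgroup_dvd_card N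
  have hLd : Nat.card L ∣ n_suz := by
    refine (dvd_pow_self _ (by omega : j ≠ 0)).trans ?_
    rw [← hc]
    exact hNd
  have hLo : Nat.card L ∈ o_suz := ords_suz B L hL hna hLd
  have hTN : ∀ t ∈ T, ∀ n ∈ N, t * n * t⁻¹ ∈ N := fun t ht => hn t (hT ht)
  have hL1 : 1 < Nat.card L := Finite.one_lt_card
  have hN1 : N ≠ ⊥ := by
    rintro rfl
    rw [card_bot] at hc
    have := Nat.one_lt_pow (by omega : j ≠ 0) hL1
    omega
  have hev : 2 ∣ Nat.card N := by
    by_contra h
    exact hN1 (odd_trivial (Nat.not_even_iff_odd.1 fun h' => h h'.two_dvd) hTN)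
  have hz := z_mem_of_even hTN hev
  have hZ := center_trivial hna e
  have hC := centralizer_eq_bot hTN hz hZ
  by_cases hj1 : j = 1
  · subst hj1
    rw [pow_one] at hc
    have e2 : N ≃* L := e.trans
      { toFun := fun f => f 0
        invFun := fun t _ => t
        left_inv := fun f => by funext i; rw [Subsingleton.elim i 0]
        right_inv := fun t => rfl
        map_mul' := fun f g => rfl }
    have hNs : IsSimpleGroup N := e2.isSimpleGroup
    have hNna : ¬ ∀ a b : N, a * b = b * a := by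
      intro h
      apply hna
      intro a b
      have := congrArg e2 (h (e2.symm a) (e2.symm b))
      rwa [map_mul, map_mul, MulEquiv.apply_symm_apply, MulEquiv.apply_symm_apply] at this
    have t7 := tst_true hT hNH hn (r := 7) (by norm_num) (by decide +kernel) (by norm_num) b7
    have t11 := tst_true hT hNH hn (r := 11) (by norm_num) (by decide +kernel) (by norm_num) b11
    have t13 := tst_true hT hNH hn (r := 13) (by norm_num) (by decide +kernel) (by norm_num) b13
    rw [hc] at t7 t11 t13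
    have h1 := List.all_eq_true.1 chk_ords _ hLo
    rw [t7, t11, t13] at h1
    simp only [Bool.and_self, Bool.not_true, Bool.or_false, Bool.or_eq_true, beq_iff_eq] at h1
    have small : ∀ n, Nat.card L = n → n ≠ 5 → 5 ^ 1 ∣ n → ¬ 5 ^ 2 ∣ n → ¬ 2 ^ 7 ∣ n → False := by
      intro n hn1 h5 h6 h7 h8
      rw [← hn1, ← hc] at h5 h6 h7 h8
      exact no_5 hT hNH hn hNs h5 (factorization_five h6 h7) h8
    rcases h1 with (((h1 | h1) | h1) | h1) | h1
    · exact small _ h1 (by norm_num) (by norm_num) (by norm_num) (by norm_num)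
    · exact small _ h1 (by norm_num) (by norm_num) (by norm_num) (by norm_num)
    · exact small _ h1 (by norm_num) (by norm_num) (by norm_num) (by norm_num)
    · -- `Ω₈⁺(2)`
      obtain ⟨g, hg, hgr⟩ := exists_real_filter B.table (B.known N hNs) hNna v_suz hNd (fun n => n == 174182400) (by
        rw [hc, h1]; rfl)
      rw [show (cands l_suz n_suz).filter (fun g => ordN g == 174182400) = [.oplus 4 2] by decide +kernel,
        List.mem_singleton] at hg
      subst hg
      obtain ⟨F, i1, i2, hF, he⟩ := hgr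
      refine H245.NotSuz.not_suz (F := F) hF (K := N) (L := ⊤) he hC ?_ inferInstance le_top ⟨Subgroup.topEquiv⟩
      intro h
      have h3 := (normalizer (N : Set Suz)).card_mul_index
      have h4 : T ≤ normalizer (N : Set Suz) := by
        intro t ht
        exact mem_normalizer_of_both (hTN t ht) (hTN _ (T.inv_mem ht))
      have h5 := Nat.mul_dvd_mul (two_pow_dvd h4) h
      rw [h3, card_suz] at h5
      revert h5
      decide +kernel
    · apply hw
      have h3 : N = ⊤ := eq_top_of_card_eq N (by rw [hc, h1, card_suz])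
      apply hNH
      rw [h3]
      exact mem_top w
  · -- `j ≥ 2`
    have h2 : Nat.card L ^ 2 ∣ n_suz := (pow_dvd_pow _ (show 2 ≤ j by omega)).trans (by rw [← hc]; exact hNd)
    have hj2 : j = 2 := by
      by_contra hj2
      have h3 : Nat.card L ^ 3 ∣ n_suz := (pow_dvd_pow _ (show 3 ≤ j by omega)).trans (by rw [← hc]; exact hNd)
      have h4 := List.all_eq_true.1 chk_cube _ hLo
      rw [bne_iff_ne] at h4
      exact h4 (Nat.mod_eq_zero_of_dvd h3)
    subst hj2
    have h1 := List.all_eq_true.1 chk_sq _ hLo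
    rw [Nat.mod_eq_zero_of_dvd h2] at h1
    simp only [bne_self_eq_false, Bool.or_false, Bool.or_eq_true, beq_iff_eq] at h1
    have big : ∀ n, Nat.card L = n → 5 ^ 2 ∣ n ^ 2 → ¬ 5 ^ 3 ∣ n ^ 2 → ¬ 2 ^ 7 ∣ n ^ 2 → False := by
      intro n hn1 h6 h7 h8
      rw [← hn1, ← hc] at h6 h7 h8
      exact no_25 hT hNH hn (factorization_five h6 h7) h8
    rcases h1 with h1 | h1
    · exact big _ h1 (by norm_num) (by norm_num) (by norm_num)
    · exact big _ h1 (by norm_num) (by norm_num) (by norm_num)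

/-- **an overgroup `H` of `T` not containing `w` has a nontrivial normal elementary abelian 2-subgroup** -/
theorem exists_elem (B : Base) {H : Subgroup Suz} (hT : T ≤ H) (hw : w ∉ H) :
    ∃ N : Subgroup Suz, N ≤ T ∧ (∀ h ∈ H, ∀ n ∈ N, h * n * h⁻¹ ∈ N) ∧ (∀ n ∈ N, n * n = 1) ∧ N ≠ ⊥ := by
  have hfin := fin
  have hHnt : (⊤ : Subgroup H) ≠ ⊥ := by
    intro h
    have h1 := two_pow_dvd hT
    have h2 : Nat.card H = 1 := by rw [← card_top (G := H), h, card_bot]
    rw [h2] at h1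
    norm_num at h1
  obtain ⟨M, -, hM, hMn, hmin⟩ := Cfsg.Agent.Lib.MinNormal.exists_minimal_normal_le (⊤ : Subgroup H) hHnt
  have hMnorm : M.Normal := normalizer_eq_top_iff.1 (top_le_iff.1 hMn)
  have hmin' : ∀ X : Subgroup H, X.Normal → X ≤ M → X = ⊥ ∨ X = M := fun X hX hXM =>
    hmin X hXM (by rw [normalizer_eq_top_iff.2 hX])
  obtain ⟨L, j, hLM, hLs, hj, ⟨e⟩⟩ := Cfsg.Agent.Lib.MinNormal.exists_mulEquiv_pi M hM hmin'
  let N : Subgroup Suz := M.map H.subtype
  have hNH : N ≤ H := map_subtype_le _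
  have hn : ∀ h ∈ H, ∀ n ∈ N, h * n * h⁻¹ ∈ N := by
    rintro h hh _ ⟨m, hm, rfl⟩
    exact ⟨⟨h, hh⟩ * m * ⟨h, hh⟩⁻¹, hMnorm.conj_mem m hm ⟨h, hh⟩, rfl⟩
  have hN1 : N ≠ ⊥ := by
    intro h
    exact hM ((map_eq_bot_iff_of_injective M (subtype_injective H)).1 h)
  have hTN : ∀ t ∈ T, ∀ n ∈ N, t * n * t⁻¹ ∈ N := fun t ht => hn t (hT ht)
  by_cases hab : ∀ x ∈ M, ∀ y ∈ M, Commute x y
  · obtain ⟨p, hp, hpg, hpx⟩ := Cfsg.Agent.Lib.MinNormalNonabelian.abelian_structure M hM hmin' hab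
    by_cases hp2 : p = 2
    · subst hp2
      have hNp : IsPGroup 2 N := hpg.map _
      refine ⟨N, ?_, hn, ?_, hN1⟩
      · -- `N ≤ T`
        have hf2 : Fact (Nat.Prime 2) := ⟨Nat.prime_two⟩
        have hle : T ≤ normalizer (N : Set Suz) := fun t ht =>
          mem_normalizer_of_both (hTN t ht) (hTN _ (T.inv_mem ht))
        have h3 : IsPGroup 2 ↥(T ⊔ N) := isPGroup_T.to_sup_of_normal_right' hNp hle
        have h4 := P.is_maximal' h3 (le_sup_left : T ≤ T ⊔ N)
        have h5 : T ⊔ N = T := h4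
        rw [← h5]
        exact le_sup_right
      · rintro _ ⟨m, hm, rfl⟩
        have := hpx m hm
        rw [pow_two] at this
        exact congrArg Subtype.val this
    · exfalso
      apply hN1
      apply odd_trivial _ hTN
      have hf : Fact p.Prime := ⟨hp⟩
      have hNp : IsPGroup p N := hpg.map _
      obtain ⟨k, hk⟩ := IsPGroup.iff_card.1 hNp
      rw [hk]
      exact (hp.odd_of_ne_two hp2).pow
  · exfalso
    have hna : ¬ ∀ a b : L, a * b = b * a := by
      intro h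
      apply hab
      intro x hx y hy
      have h1 : (⟨x, hx⟩ : M) * ⟨y, hy⟩ = ⟨y, hy⟩ * ⟨x, hx⟩ := by
        apply e.injective
        rw [map_mul, map_mul]
        funext i
        exact h _ _
      exact congrArg Subtype.val h1
    exact no_nonabelian B hT hw hNH hn hna hj ((M.equivMapOfInjective _ (subtype_injective H)).symm.trans e)

end Cfsg.Agent.H895.Pron.SuzF
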